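import Mathlib

/-!
# Computations in `2 × A₅`
-/

set_option autoImplicit false
set_option maxRecDepth 10000
set_option synthInstance.maxSize 2048
set_option synthInstance.maxHeartbeats 200000
set_option maxSynthPendingDepth 5

namespace Cfsg.Agent.J1Unique

open scoped commutatorElement

abbrev A5 := alternatingGroup (Fin 5)

/-- The abstract involution centraliser. -/
abbrev P5 := Multiplicative (ZMod 2) × A5

/-- The central involution. -/
def zP : P5 := (Multiplicative.ofAdd 1, 1)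

theorem fst_cases : ∀ a : Multiplicative (ZMod 2), a = 1 ∨ a = Multiplicative.ofAdd 1 := by decide

theorem fst_sq : ∀ a : Multiplicative (ZMod 2), a * a = 1 := by decide

theorem fst_eq : ∀ a b : Multiplicative (ZMod 2), (a = 1 ↔ b = 1) → a = b := by decide

theorem fst_mul : ∀ a b : Multiplicative (ZMod 2), a * b = 1 ↔ (a = 1 ↔ b = 1) := by decide

theorem alt_no_four : ∀ a : A5, a ^ 4 = 1 → a ^ 2 = 1 := by decide +kernel

theorem alt_center : ∀ a : A5, (∀ b : A5, a * b = b * a) → a = 1 := by decide +kernel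

theorem alt_inv_conj : ∀ a : A5, a * a = 1 → a ≠ 1 → ∀ b : A5, b * b = 1 → b ≠ 1 →
    ∃ c : A5, c * a * c⁻¹ = b := by decide +kernel

theorem alt_klein : ∀ v : A5, v * v = 1 → v ≠ 1 → ∀ w : A5, w * w = 1 → w ≠ 1 → v * w = w * v →
    ∀ g : A5, g * v = v * g → g * w = w * g := by decide +kernel

theorem alt_klein_pick : ∀ v : A5, v * v = 1 → v ≠ 1 →
    ∃ w : A5, w * w = 1 ∧ w ≠ 1 ∧ w ≠ v ∧ v * w = w * v := by decide +kernel

theorem alt_sq_of_comm : ∀ v : A5, v * v = 1 → v ≠ 1 → ∀ g : A5, g * v = v * g → g * g = 1 := by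
  decide +kernel

theorem alt_card_cent : ∀ v : A5, v * v = 1 → v ≠ 1 →
    (Finset.univ.filter fun g : A5 => g * v = v * g).card = 4 := by decide +kernel

theorem P5_card_cent {v : A5} (h : v * v = 1) (h1 : v ≠ 1) :
    Nat.card {p : P5 // p.2 * v = v * p.2} = 8 := by
  let e : {p : P5 // p.2 * v = v * p.2} ≃ Multiplicative (ZMod 2) × {g : A5 // g * v = v * g} :=
    { toFun := fun p => (p.1.1, ⟨p.1.2, p.2⟩)
      invFun := fun q => ⟨(q.1, q.2.1), q.2.2⟩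
      left_inv := fun _ => rfl
      right_inv := fun _ => rfl }
  rw [Nat.card_congr e, Nat.card_prod, Nat.card_eq_fintype_card, Nat.card_eq_fintype_card,
    Fintype.card_subtype, alt_card_cent v h h1]
  rfl

theorem alt_pick : ∀ δ : A5, δ * δ = 1 → δ ≠ 1 → ∀ β : A5, β * β = 1 → β ≠ 1 → β ≠ δ →
    β * δ = δ * β → ∃ γ : A5, γ * γ = 1 ∧ γ ≠ 1 ∧ β * γ * (β * γ * (β * γ)) = 1 ∧ β ≠ γ ∧
      (γ * δ) ^ 5 = 1 ∧ γ ≠ δ ∧ (β * γ * δ) ^ 5 = 1 := by decide +kernel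

theorem alt_five : ∀ α : A5, α * α = 1 → α ≠ 1 → ∀ τ : A5, τ * τ = 1 → τ ≠ 1 →
    (τ * α) ^ 3 = 1 → τ ≠ α → ∀ β : A5, β * β = 1 → β ≠ 1 → β ≠ τ → β * τ = τ * β →
    (α * β) ^ 5 = 1 := by decide +kernel

theorem alt_cent_five : ∀ x : A5, x ^ 5 = 1 → x ≠ 1 → ∀ g : A5, g * x = x * g → g ^ 5 = 1 := by
  decide +kernel

theorem alt_cent_three : ∀ x : A5, x ^ 3 = 1 → x ≠ 1 → ∀ g : A5, g * x = x * g → g ^ 3 = 1 := by
  decide +kernel

theorem alt_five_conj : ∀ x : A5, x ^ 5 = 1 → x ≠ 1 → ∀ y : A5, y ^ 5 = 1 → y ≠ 1 →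
    ∃ g : A5, ∃ k : Fin 5, (k : ℕ) ≠ 0 ∧ g * x * g⁻¹ = y ^ (k : ℕ) := by decide +kernel

theorem alt_five_inverted : ∀ x : A5, x ^ 5 = 1 → x ≠ 1 →
    ∃ c : A5, c * c = 1 ∧ c ≠ 1 ∧ c * x * c⁻¹ = x⁻¹ := by decide +kernel

theorem alt_orders : ∀ a : A5, a ^ 3 = 1 ∨ a ^ 5 = 1 ∨ a ^ 2 = 1 := by decide +kernel

theorem alt_comm : ∀ a : A5, ∃ b c : A5, b * c * b⁻¹ * c⁻¹ = a := by decide +kernel

theorem card_P5 : Nat.card P5 = 120 := by
  rw [Nat.card_prod, Nat.card_eq_fintype_card, Nat.card_eq_fintype_card]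
  rfl

theorem mem_commutator_P5 {p : P5} : p ∈ commutator P5 ↔ p.1 = 1 := by
  constructor
  · intro h
    exact Abelianization.commutator_subset_ker (MonoidHom.fst _ A5) h
  · intro h
    obtain ⟨a, y⟩ := p
    change a = 1 at h
    obtain ⟨b, c, hbc⟩ := alt_comm y
    have : ((a, y) : P5) = ⁅((1 : Multiplicative (ZMod 2)), b), ((1 : Multiplicative (ZMod 2)), c)⁆ := by
      subst h
      ext1
      · simp [commutatorElement_def]
      · simp [commutatorElement_def, hbc]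
    rw [this]
    exact Subgroup.commutator_mem_commutator (Subgroup.mem_top _) (Subgroup.mem_top _)

theorem central_eq_zP {p : P5} (h2 : p * p = 1) (h1 : p ≠ 1) (hc : ∀ q, p * q = q * p) : p = zP := by
  obtain ⟨a, y⟩ := p
  have hy : y = 1 := alt_center y fun b => congrArg Prod.snd (hc (1, b))
  subst hy
  rcases fst_cases a with rfl | rfl
  · exact absurd rfl h1
  · rfl

theorem P5_sq {p : P5} : p * p = 1 ↔ p.2 * p.2 = 1 := by
  rw [Prod.ext_iff]
  exact ⟨fun h => h.2, fun h => ⟨fst_sq _, h⟩⟩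

theorem P5_snd_ne {p : P5} (h1 : p ≠ 1) (hz : p ≠ zP) : p.2 ≠ 1 := by
  intro h
  rcases fst_cases p.1 with h' | h'
  · exact h1 (Prod.ext h' h)
  · exact hz (Prod.ext h' h)

theorem P5_odd_fst {p : P5} {n : ℕ} (hn : Odd n) (h : p ^ n = 1) : p.1 = 1 := by
  obtain ⟨k, rfl⟩ := hn
  have := congrArg Prod.fst h
  rw [Prod.pow_fst, pow_succ, pow_mul, pow_two, fst_sq, one_pow, one_mul] at this
  exact this

theorem P5_conj {p q : P5} (hp : p.2 * p.2 = 1) (hp1 : p.2 ≠ 1) (hq : q.2 * q.2 = 1) (hq1 : q.2 ≠ 1)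
    (h : p.1 = 1 ↔ q.1 = 1) : ∃ g : P5, g * p * g⁻¹ = q := by
  obtain ⟨c, hc⟩ := alt_inv_conj _ hp hp1 _ hq hq1
  refine ⟨(1, c), Prod.ext ?_ hc⟩
  simp [fst_eq _ _ h]

end Cfsg.Agent.J1Unique
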