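import Cfsg.Agent.Lib.J1Unique.Iso
import Cfsg.Agent.Lib.J1.Spectrum
import Cfsg.Agent.Lib.Janko.J1Simple

/-!
# The five generators inside the matrix group
-/

set_option autoImplicit false
set_option linter.unusedSimpArgs false

namespace Cfsg.Agent.J1Unique

open Cfsg.Agent.J1 Cfsg.Spor

theorem wordG_append (u v : List Bool) : wordG (u ++ v) = wordG u * wordG v := by
  induction u with
  | nil => simp [wordG]
  | cons b u ih => simp [wordG, ih, mul_assoc]

/-- Element of `J₁` given by a word. -/
noncomputable def wordJ (w : List Bool) : Cfsg.Spor.J1 := ⟨wordG w, wordG_mem w⟩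

theorem wordJ_append (u v : List Bool) : wordJ (u ++ v) = wordJ u * wordJ v :=
  Subtype.ext (wordG_append u v)

theorem wordJ_nil : wordJ [] = 1 := rfl

theorem wordJ_eq_one {w : List Bool} (h : (wordP w).beq idM = true) : wordJ w = 1 := by
  refine Subtype.ext (Units.ext ?_)
  show ((wordG w : GL (Fin 7) (ZMod 11)) : Matrix (Fin 7) (Fin 7) (ZMod 11)) = 1
  rw [← (wordP_spec w).2, M7.eq_of_beq h, toMat_id]

theorem wordJ_pow (w : List Bool) : ∀ n : ℕ, wordJ w ^ n = wordJ (List.replicate n w).flatten
  | 0 => by simp [wordJ_nil]
  | n + 1 => by rw [pow_succ', wordJ_pow w n, List.replicate_succ, List.flatten_cons, wordJ_append]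

/-- Word of a generator. -/
def wA : List Bool :=
  [false, false, true, false, false, true, true, true, false, true, false, true, true, false, true, false, true, true, false]

/-- Word of a generator. -/
def wB : List Bool :=
  [false, true, true, false, false, false, true, true, false, true, true, false, true, true, false, true, false]

/-- Word of a generator. -/
def wC : List Bool :=
  [false, true, false, true, true, false, false, true, false, false, true, true, false, true, false]

/-- Word of a generator. -/
def wD : List Bool :=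
  [true, true, false, true, false, true, false, false, true, false, false, true, false, true, false, true]

/-- Word of a generator. -/
def wT : List Bool :=
  [false, false, false, true, true, false, false, false, true, true, false, false, false, true, true]

theorem goodRel_wordJ : GoodRel (wordJ wA) (wordJ wB) (wordJ wC) (wordJ wD) (wordJ wT) := by
  exact
    { aa := by simp only [← wordJ_append, wordJ_pow]; exact wordJ_eq_one (by decide +kernel),
      bb := by simp only [← wordJ_append, wordJ_pow]; exact wordJ_eq_one (by decide +kernel),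
      cc := by simp only [← wordJ_append, wordJ_pow]; exact wordJ_eq_one (by decide +kernel),
      dd := by simp only [← wordJ_append, wordJ_pow]; exact wordJ_eq_one (by decide +kernel),
      tt := by simp only [← wordJ_append, wordJ_pow]; exact wordJ_eq_one (by decide +kernel),
      ac := by simp only [← wordJ_append, wordJ_pow]; exact wordJ_eq_one (by decide +kernel),
      ab := by simp only [← wordJ_append, wordJ_pow]; exact wordJ_eq_one (by decide +kernel),
      bc := by simp only [← wordJ_append, wordJ_pow]; exact wordJ_eq_one (by decide +kernel),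
      ad := by simp only [← wordJ_append, wordJ_pow]; exact wordJ_eq_one (by decide +kernel),
      bd := by simp only [← wordJ_append, wordJ_pow]; exact wordJ_eq_one (by decide +kernel),
      bt := by simp only [← wordJ_append, wordJ_pow]; exact wordJ_eq_one (by decide +kernel),
      ct := by simp only [← wordJ_append, wordJ_pow]; exact wordJ_eq_one (by decide +kernel),
      dt := by simp only [← wordJ_append, wordJ_pow]; exact wordJ_eq_one (by decide +kernel),
      cd := by simp only [← wordJ_append, wordJ_pow]; exact wordJ_eq_one (by decide +kernel),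
      ta := by simp only [← wordJ_append, wordJ_pow]; exact wordJ_eq_one (by decide +kernel),
      hemi := by simp only [← wordJ_append, wordJ_pow]; exact wordJ_eq_one (by decide +kernel),
      bcdt := by simp only [← wordJ_append, wordJ_pow]; exact wordJ_eq_one (by decide +kernel) }

theorem prod_X : ((wordJ wA * wordJ wB * wordJ wC * wordJ wB * wordJ wA * wordJ wT * wordJ wA * wordJ wB * wordJ wA * wordJ wC * wordJ wD * wordJ wC * wordJ wB * wordJ wD * wordJ wC * wordJ wT * wordJ wA * wordJ wB * wordJ wA * wordJ wC * wordJ wT : Cfsg.Spor.J1) : GL (Fin 7) (ZMod 11)) = jankoX := by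
  simp only [← wordJ_append]
  refine Units.ext ?_
  show ((wordG _ : GL (Fin 7) (ZMod 11)) : Matrix (Fin 7) (Fin 7) (ZMod 11)) = _
  rw [← (wordP_spec _).2, M7.eq_of_beq (show (wordP _).beq xM = true by decide +kernel), toMat_x]
  rfl

theorem prod_Y : ((wordJ wA * wordJ wC * wordJ wD * wordJ wC * wordJ wT * wordJ wA * wordJ wB * wordJ wA * wordJ wC * wordJ wT : Cfsg.Spor.J1) : GL (Fin 7) (ZMod 11)) = jankoY := by
  simp only [← wordJ_append]
  refine Units.ext ?_
  show ((wordG _ : GL (Fin 7) (ZMod 11)) : Matrix (Fin 7) (Fin 7) (ZMod 11)) = _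
  rw [← (wordP_spec _).2, M7.eq_of_beq (show (wordP _).beq yM = true by decide +kernel), toMat_y]
  rfl

theorem closure_wordJ : Subgroup.closure ({wordJ wA, wordJ wB, wordJ wC, wordJ wD, wordJ wT} : Set Cfsg.Spor.J1) = ⊤ := by
  set K := Subgroup.closure ({wordJ wA, wordJ wB, wordJ wC, wordJ wD, wordJ wT} : Set Cfsg.Spor.J1)
  have hA : wordJ wA ∈ K := Subgroup.subset_closure (by simp)
  have hB : wordJ wB ∈ K := Subgroup.subset_closure (by simp)
  have hC : wordJ wC ∈ K := Subgroup.subset_closure (by simp)
  have hD : wordJ wD ∈ K := Subgroup.subset_closure (by simp)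
  have hT : wordJ wT ∈ K := Subgroup.subset_closure (by simp)
  refine Cfsg.Agent.Janko.J1.eq_top_of_gens ?_ ?_
  · rw [show Cfsg.Agent.Janko.J1.gX = wordJ wA * wordJ wB * wordJ wC * wordJ wB * wordJ wA * wordJ wT * wordJ wA * wordJ wB * wordJ wA * wordJ wC * wordJ wD * wordJ wC * wordJ wB * wordJ wD * wordJ wC * wordJ wT * wordJ wA * wordJ wB * wordJ wA * wordJ wC * wordJ wT from Subtype.ext prod_X.symm]
    exact (mul_mem (mul_mem (mul_mem (mul_mem (mul_mem (mul_mem (mul_mem (mul_mem (mul_mem (mul_mem (mul_mem (mul_mem (mul_mem (mul_mem (mul_mem (mul_mem (mul_mem (mul_mem (mul_mem (mul_mem hA hB) hC) hB) hA) hT) hA) hB) hA) hC) hD) hC) hB) hD) hC) hT) hA) hB) hA) hC) hT)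
  · rw [show Cfsg.Agent.Janko.J1.gY = wordJ wA * wordJ wC * wordJ wD * wordJ wC * wordJ wT * wordJ wA * wordJ wB * wordJ wA * wordJ wC * wordJ wT from Subtype.ext prod_Y.symm]
    exact (mul_mem (mul_mem (mul_mem (mul_mem (mul_mem (mul_mem (mul_mem (mul_mem (mul_mem hA hC) hD) hC) hT) hA) hB) hA) hC) hT)

theorem isoJ1_of_good {G : Type*} [Group G] [Finite G] (hG : Nat.card G = 175560) {a b c d t : G}
    (h : GoodRel a b c d t) (hgen : Subgroup.closure ({a, b, c, d, t} : Set G) = ⊤) :
    Cfsg.Spor.IsoJ1 G :=
  nonempty_mulEquiv hG Cfsg.Agent.Janko.J1.isJ1.2 h hgen goodRel_wordJ closure_wordJ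

end Cfsg.Agent.J1Unique
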