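import Cfsg.Agent.Lib.J1Unique.Pivot
import Cfsg.Agent.Lib.J1Unique.Model

/-!
# Simple groups of order 175560 with an involution centraliser `2 × A₅`
-/

set_option autoImplicit false
set_option linter.unusedSectionVars false

namespace Cfsg.Agent.J1Unique

open Subgroup

variable {G : Type*} [Group G] [Finite G]

theorem ofAdd_one_ne : Multiplicative.ofAdd (1 : ZMod 2) ≠ 1 := by decide

theorem iff_of_not_iff {p q r : Prop} (h₁ : ¬(p ↔ r)) (h₂ : ¬(p ↔ q)) : q ↔ r := by tauto

theorem fst_cube_five : ∀ a : Multiplicative (ZMod 2), (a * a * a) ^ 5 = a := by decide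

theorem sq_commute {u v : G} (hu : u * u = 1) (hv : v * v = 1) (h : Commute u v) :
    (u * v) ^ 2 = 1 := by
  rw [h.mul_pow, pow_two, pow_two, hu, hv, one_mul]

theorem mem_zpowers_three [Fact (Nat.Prime 3)] (hG : Nat.card G = 175560) {r w : G}
    (hr : orderOf r = 3) (hw : w ^ 3 = 1) (h : Commute w r) : w ∈ zpowers r := by
  obtain ⟨P, hP⟩ := (IsPGroup.of_card (n := 1) (p := 3) (G := zpowers r)
    (by rw [Nat.card_zpowers, hr, pow_one])).exists_le_sylow
  have hPc : Nat.card (P : Subgroup G) = 3 := by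
    rw [Sylow.card_eq_multiplicity, hG, show (175560 : ℕ) = 3 * 58520 by norm_num,
      Nat.factorization_mul (by norm_num) (by norm_num)]
    simp [Nat.prime_three.factorization_self,
      Nat.factorization_eq_zero_of_not_dvd (show ¬ 3 ∣ 58520 by norm_num)]
  have hPe : zpowers r = (P : Subgroup G) :=
    Subgroup.eq_of_le_of_card_ge hP (by rw [hPc, Nat.card_zpowers, hr])
  have hwn : w ∈ normalizer ((P : Subgroup G) : Set G) := by
    refine mem_normalizer_fintype fun v hv => ?_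
    obtain ⟨k, rfl⟩ := mem_zpowers_iff.1 (hPe.symm.le hv)
    rw [(h.zpow_right k).eq, mul_inv_cancel_right]
    exact hv
  have hwp : IsPGroup 3 (zpowers w) := by
    intro x
    refine ⟨1, ?_⟩
    obtain ⟨z, hz⟩ := mem_zpowers_iff.1 x.2
    apply Subtype.ext
    rw [pow_one, coe_pow, coe_one, ← hz, ← zpow_natCast, ← zpow_mul, mul_comm, zpow_mul,
      zpow_natCast, hw, one_zpow]
  have hsup := P.isPGroup'.to_sup_of_normal_left' hwp (zpowers_le.2 hwn)
  exact hPe.symm.le
    ((P.is_maximal' hsup le_sup_left).le (le_sup_right (a := (P : Subgroup G)) (mem_zpowers w)))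

namespace Setup

variable (hS : Setup G)
include hS
variable [IsSimpleGroup G] {s : Prop} (hs : ∀ t x c : G, Pivot t x c → (Inner t c ↔ s))
include hs

theorem no_extra {t b c z : G} (ht : Inv2 t) (hb : Inv2 b) (hc : Inv2 c) (hz : Inv2 z)
    (hbt : Commute b t) (hct : Commute c t) (hbt' : b ≠ t) (hbc : (b * c) ^ 3 = 1) (hne : b ≠ c)
    (hsb : Inner t b ↔ s) (hzb : Commute z b) (hzc : Commute z c) : z = t := by
  have := Fact.mk Nat.prime_three
  have := Fact.mk Nat.prime_five
  obtain ⟨χt⟩ := hS.chart t ht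
  have noncomm : ¬ Commute c b := by
    intro h
    have h2 := sq_commute hb.1 hc.1 h.symm
    have h1 : b * c = 1 := by
      have := pow_gcd_eq_one.2 ⟨h2, hbc⟩
      rwa [show Nat.gcd 2 3 = 1 by norm_num, pow_one] at this
    rw [mul_eq_one_iff_eq_inv, hc.inv_eq] at h1
    exact hne h1
  have central : ∀ v : G, Inv2 v → v ≠ t → Commute v t → Commute v b → Commute v c → False :=
    fun v hv hvt hv' hvb hvc => noncomm (χt.klein hv' hv hvt hbt hb.1 hvb hct hvc.symm)
  by_contra hzt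
  have hnzt : ¬ Commute z t := fun h => central z hz hzt h hzb hzc
  set w := z * t with hw
  have hwb : Commute w b := hzb.mul_left hbt.symm
  have hwc : Commute w c := hzc.mul_left hct.symm
  have hzw : z * w * z⁻¹ = w⁻¹ := by
    rw [hw, mul_inv_rev, ht.inv_eq, hz.inv_eq, ← mul_assoc z z, hz.1, one_mul]
  have htw : t * w * t⁻¹ = w⁻¹ := by
    rw [hw, mul_inv_rev, ht.inv_eq, hz.inv_eq, mul_assoc t, mul_assoc z, ht.1, mul_one]
  have hodd : Odd (orderOf w) := by
    by_contra hn
    rw [Nat.not_odd_iff_even] at hn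
    obtain ⟨m, hm⟩ := hn
    have hm0 : 0 < m := by have := orderOf_pos w; omega
    set u := w ^ m with hu
    have hu2 : Inv2 u := by
      refine ⟨?_, fun e => ?_⟩
      · rw [hu, ← pow_add, ← hm, pow_orderOf_eq_one]
      · have := Nat.le_of_dvd hm0 (orderOf_dvd_of_pow_eq_one e)
        omega
    have hinv : ∀ i : G, i * w * i⁻¹ = w⁻¹ → Commute u i := by
      intro i hi
      have : i * u * i⁻¹ = u := by rw [hu, ← conj_pow, hi, inv_pow, ← hu, hu2.inv_eq]
      exact (mul_inv_eq_iff_eq_mul.1 this).symm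
    refine central u hu2 (fun e => hnzt ?_) (hinv t htw) (hwb.pow_left m) (hwc.pow_left m)
    exact e ▸ (hinv z hzw).symm
  set r := b * c with hr
  have hro : orderOf r = 3 := by
    refine orderOf_eq_prime hbc fun e => hne ?_
    rw [hr, mul_eq_one_iff_eq_inv, hc.inv_eq] at e
    exact e
  have hwr : Commute w r := hwb.mul_right hwc
  have htr : Commute t r := hbt.symm.mul_right hct.symm
  have hw1 : w ≠ 1 := by
    intro e
    rw [hw, mul_eq_one_iff_eq_inv, ht.inv_eq] at e
    exact hzt e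
  obtain ⟨χb⟩ := hS.chart b hb
  have hfst : (χb.img w).1 = 1 :=
    P5_odd_fst hodd (χb.img_pow_eq_one hwb (pow_orderOf_eq_one w))
  have hpow : ∀ n : ℕ, (χb.img w).2 ^ n = 1 → w ^ n = 1 := by
    intro n h
    refine χb.img_inj (hwb.pow_left n) (Commute.one_left b) ?_
    rw [χb.img_pow hwb, χb.img_one]
    exact Prod.ext (by rw [Prod.pow_fst, hfst, one_pow]; rfl) (by rw [Prod.pow_snd, h]; rfl)
  rcases alt_orders (χb.img w).2 with h | h | h
  · obtain ⟨k, hk⟩ := mem_zpowers_iff.1 (mem_zpowers_three hS.card hro (hpow 3 h) hwr)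
    have hbr : b * r * b⁻¹ = r⁻¹ := by
      rw [hr, mul_inv_rev, hc.inv_eq, hb.inv_eq, ← mul_assoc b b, hb.1, one_mul]
    have h1 : b * w * b⁻¹ = w⁻¹ := by rw [← hk, ← conj_zpow, hbr, inv_zpow]
    rw [← hwb.eq, mul_inv_cancel_right] at h1
    exact not_self_inv_of_orderOf (orderOf_eq_prime (hpow 3 h) hw1) (by norm_num) h1
  · have hP : Pivot b w t :=
      ⟨hb, orderOf_eq_prime (hpow 5 h) hw1, hwb, ht, hbt.symm, htw, r, hro, hwr.symm, htr⟩
    have := hs _ _ _ hP
    have h2 := hS.inner_iff_not ht hb hbt.symm hbt'.symm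
    exact iff_not_self ((this.trans hsb.symm).trans h2)
  · obtain ⟨i, hi⟩ := hodd
    have h2 := orderOf_dvd_of_pow_eq_one (hpow 2 h)
    have := Nat.le_of_dvd (by norm_num) h2
    have h3 : orderOf w ≠ 1 := fun e => hw1 (orderOf_eq_one_iff.1 e)
    omega

theorem exists_good : ∃ a b c d t : G, GoodRel a b c d t ∧ t ≠ 1 := by
  have := Fact.mk Nat.prime_three
  have := Fact.mk Nat.prime_five
  have := Fact.mk Nat.prime_two
  obtain ⟨t, ht⟩ := exists_prime_orderOf_dvd_card' (G := G) 2 (by rw [hS.card]; norm_num)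
  obtain ⟨ht1, ht'⟩ := (orderOf_eq_prime_iff).1 ht
  rw [pow_two] at ht1
  have ht2 : Inv2 t := ⟨ht1, ht'⟩
  obtain ⟨χ⟩ := hS.chart t ht2
  classical
  set e : Multiplicative (ZMod 2) := if s then 1 else Multiplicative.ofAdd 1 with he
  have hes : e = 1 ↔ s := by
    rw [he]
    by_cases h : s
    · simp [h]
    · rw [if_neg h]
      exact ⟨fun h' => absurd h' ofAdd_one_ne, fun h' => absurd h' h⟩
  have lift : ∀ α : A5, α * α = 1 → α ≠ 1 →
      ∃ v, Inv2 v ∧ Commute v t ∧ v ≠ t ∧ χ.img v = (e, α) ∧ (Inner t v ↔ s) := by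
    intro α hα hα1
    obtain ⟨v, hv, hvi⟩ := χ.exists_img (e, α)
    refine ⟨v, ⟨?_, fun h => hα1 ?_⟩, hv, fun h => hα1 ?_, hvi, ?_⟩
    · refine χ.img_inj (hv.mul_left hv) (Commute.one_left t) ?_
      rw [χ.img_mul hv hv, hvi, χ.img_one]
      exact Prod.ext (fst_sq e) hα
    · rw [h, χ.img_one] at hvi; exact (congrArg Prod.snd hvi).symm
    · rw [h, χ.img_self] at hvi; exact (congrArg Prod.snd hvi).symm
    · rw [χ.inner_iff hv, hvi]; exact hes
  obtain ⟨δ, hδ2, hδ1⟩ : ∃ δ : A5, δ * δ = 1 ∧ δ ≠ 1 :=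
    ⟨⟨Equiv.swap 0 1 * Equiv.swap 2 3, Equiv.Perm.mem_alternatingGroup.mpr (by decide)⟩,
      by decide, by decide⟩
  obtain ⟨d, hd, hdt, hdt', hdi, hsd⟩ := lift δ hδ2 hδ1
  obtain ⟨χd⟩ := hS.chart d hd
  obtain ⟨β, b, hβ2, hβ1, hβδ, hβc, hb, hbt, hbt', hbi, hsb, hbd, hdb⟩ : ∃ (β : A5) (b : G),
      β * β = 1 ∧ β ≠ 1 ∧ β ≠ δ ∧ β * δ = δ * β ∧ Inv2 b ∧ Commute b t ∧ b ≠ t ∧
      χ.img b = (e, β) ∧ (Inner t b ↔ s) ∧ Commute b d ∧ (Inner d b ↔ Inner d t) := by
    obtain ⟨β, hβ2, hβ1, hβδ, hβc⟩ := alt_klein_pick δ hδ2 hδ1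
    have hβ' : (β * δ) * (β * δ) = 1 := by
      calc β * δ * (β * δ) = β * (δ * β) * δ := by group
        _ = β * β * (δ * δ) := by rw [← hβc.symm]; group
        _ = 1 := by rw [hβ2, hδ2, one_mul]
    have hβ'1 : β * δ ≠ 1 := by
      intro h
      rw [mul_eq_one_iff_eq_inv, inv_eq_of_mul_eq_one_right hδ2] at h
      exact hβδ h
    have hβ'δ : β * δ ≠ δ := fun h => hβ1 (mul_eq_right.1 h)
    have hβ'c : β * δ * δ = δ * (β * δ) := by rw [← mul_assoc δ β δ, hβc]
    obtain ⟨b₁, h1, h1t, h1t', h1i, h1s⟩ := lift β hβ2 hβ1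
    obtain ⟨b₂, h2, h2t, h2t', h2i, h2s⟩ := lift (β * δ) hβ' hβ'1
    have comm : ∀ (v : G) (γ : A5), Commute v t → χ.img v = (e, γ) → γ * δ = δ * γ → Commute v d := by
      intro v γ hv hvi hγ
      refine χ.img_inj (hv.mul_left hdt) (hdt.mul_left hv) ?_
      rw [χ.img_mul hv hdt, χ.img_mul hdt hv, hvi, hdi]
      exact Prod.ext rfl hγ
    have h1d := comm b₁ β h1t h1i hβc.symm
    have h2d := comm b₂ (β * δ) h2t h2i hβ'c
    by_cases hsame : Inner d b₁ ↔ Inner d t
    · exact ⟨β, b₁, hβ2, hβ1, hβδ, hβc.symm, h1, h1t, h1t', h1i, h1s, h1d, hsame⟩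
    refine ⟨β * δ, b₂, hβ', hβ'1, hβ'δ, hβ'c, h2, h2t, h2t', h2i, h2s, h2d, ?_⟩
    have hasym := hS.inner_iff_not ht2 hd hdt.symm hdt'.symm
    have hself := χd.not_inner_self
    by_cases hS' : s
    · have hprod : b₁ * b₂ = d := by
        refine χ.img_inj (h1t.mul_left h2t) hdt ?_
        rw [χ.img_mul h1t h2t, h1i, h2i, hdi]
        refine Prod.ext ?_ ?_
        · show e * e = e
          rw [hes.2 hS', one_mul]
        · show β * (β * δ) = δ
          rw [← mul_assoc, hβ2, one_mul]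
      have := χd.inner_mul h1d h2d
      rw [hprod] at this
      exact iff_of_not_iff hsame fun h => hself (this.2 h)
    · have hprod : b₁ * b₂ = d * t := by
        refine χ.img_inj (h1t.mul_left h2t) (hdt.mul_left (Commute.refl t)) ?_
        rw [χ.img_mul h1t h2t, χ.img_mul hdt (Commute.refl t), h1i, h2i, hdi, χ.img_self]
        refine Prod.ext ?_ ?_
        · show e * e = e * Multiplicative.ofAdd 1
          rw [he, if_neg hS']
        · show β * (β * δ) = δ * 1
          rw [← mul_assoc, hβ2, one_mul, mul_one]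
      have := χd.inner_mul h1d h2d
      rw [hprod, χd.inner_mul (Commute.refl d) hdt.symm] at this
      have hIt : Inner d t := not_not.1 fun h => hS' (hsd.1 (hasym.2 h))
      exact iff_of_not_iff hsame fun h => hself ((this.2 h).2 hIt)
  obtain ⟨γ, hγ2, hγ1, hβγ, hβγ', hγδ5, hγδ, hβγδ⟩ := alt_pick δ hδ2 hδ1 β hβ2 hβ1 hβδ hβc
  obtain ⟨c, hc, hct, hct', hci, hsc⟩ := lift γ hγ2 hγ1
  have hbcne : b ≠ c := fun h => hβγ' (by rw [h, hci] at hbi; exact (congrArg Prod.snd hbi).symm)
  have hbc : (b * c) ^ 3 = 1 := by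
    refine χ.img_inj ((hbt.mul_left hct).pow_left 3) (Commute.one_left t) ?_
    rw [χ.img_pow (hbt.mul_left hct), χ.img_mul hbt hct, hbi, hci, χ.img_one]
    refine Prod.ext ?_ ?_
    · show (e * e) ^ 3 = 1
      rw [fst_sq, one_pow]
    · show (β * γ) ^ 3 = 1
      rw [pow_succ', pow_two]
      exact hβγ
  have hcd : (c * d) ^ 5 = 1 := by
    refine χ.img_inj ((hct.mul_left hdt).pow_left 5) (Commute.one_left t) ?_
    rw [χ.img_pow (hct.mul_left hdt), χ.img_mul hct hdt, hci, hdi, χ.img_one]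
    refine Prod.ext ?_ ?_
    · show (e * e) ^ 5 = 1
      rw [fst_sq, one_pow]
    · exact hγδ5
  set x := c * d with hx
  have hxo : orderOf x = 5 := by
    refine orderOf_eq_prime hcd fun h => hγδ ?_
    rw [hx, mul_eq_one_iff_eq_inv, hd.inv_eq] at h
    rw [h, hdi] at hci
    exact (congrArg Prod.snd hci).symm
  have hxt : Commute x t := hct.mul_left hdt
  have hcx : c * x * c⁻¹ = x⁻¹ := by
    rw [hx, mul_inv_rev, hc.inv_eq, hd.inv_eq, ← mul_assoc c c, hc.1, one_mul]
  have hdx : d * x * d⁻¹ = x⁻¹ := by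
    rw [hx, mul_inv_rev, hc.inv_eq, hd.inv_eq, mul_assoc d, mul_assoc c, hd.1, mul_one]
  obtain ⟨-, y, hy, -, hty, -, huniq⟩ := hS.five_data ht2 hxo hxt hc hct hcx
  have commy : ∀ i : G, Inv2 i → Commute i t → i * x * i⁻¹ = x⁻¹ → (Inner t i ↔ s) → Commute i y := by
    intro i hi hit hix his
    obtain ⟨z, hz, hzx, hiz⟩ := (hS.pivot_of_sign hs ht2 hxo hxt hi hit hix his).three
    exact commute_of_mem_zpowers hiz
      ((eq_zpowers_of_orderOf (huniq z hz hzx) (hz.trans hy.symm)).ge (mem_zpowers y))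
  have hcy := commy c hc hct hcx hsc
  have hdy := commy d hd hdt hdx hsd
  set a := t * y with ha
  have htay : t * a = y := by rw [ha, ← mul_assoc, ht1, one_mul]
  have hy3 : y ^ 3 = 1 := hy ▸ pow_orderOf_eq_one y
  have haa : a * a = 1 := by
    have : t * y * t = y⁻¹ := by rwa [ht2.inv_eq] at hty
    calc a * a = t * y * t * y := by rw [ha]; group
      _ = 1 := by rw [this, inv_mul_cancel]
  have ha1 : a ≠ 1 := by
    intro h
    rw [h, mul_one] at htay
    rw [← htay, ht] at hy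
    norm_num at hy
  have hainv : Inv2 a := ⟨haa, ha1⟩
  have hta : ¬ Commute t a := by
    intro h
    have h2 : y ^ 2 = 1 := by rw [← htay]; exact sq_commute ht1 haa h
    have := Nat.le_of_dvd (by norm_num) (orderOf_dvd_of_pow_eq_one h2)
    omega
  have hac : Commute a c := (hct.symm).mul_left hcy.symm
  have had : Commute a d := (hdt.symm).mul_left hdy.symm
  have hInd : Inner d a ↔ Inner d t := by
    have h1 : Inner d y := χd.inner_of_odd hdy.symm (by decide : Odd 3) hy3
    rw [← htay, χd.inner_mul hdt.symm had] at h1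
    exact h1.symm
  have hab : (a * b) ^ 5 = 1 := by
    have hane : a ≠ d := fun h => hta (h ▸ hdt.symm)
    refine χd.img_inj ((had.mul_left hbd).pow_left 5) (Commute.one_left d) ?_
    rw [χd.img_pow (had.mul_left hbd), χd.img_mul had hbd, χd.img_one]
    have hfa : (χd.img a).1 = (χd.img t).1 :=
      fst_eq _ _ (by rw [← χd.inner_iff had, ← χd.inner_iff hdt.symm]; exact hInd)
    have hfb : (χd.img b).1 = (χd.img t).1 :=
      fst_eq _ _ (by rw [← χd.inner_iff hbd, ← χd.inner_iff hdt.symm]; exact hdb)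
    refine Prod.ext ?_ ?_
    · show ((χd.img a).1 * (χd.img b).1) ^ 5 = 1
      rw [hfa, hfb, fst_sq, one_pow]
    · show ((χd.img a).2 * (χd.img b).2) ^ 5 = 1
      refine alt_five _ (χd.img_sq had haa) (χd.snd_ne had ha1 hane) _ (χd.img_sq hdt.symm ht1)
        (χd.snd_ne hdt.symm ht' hdt'.symm) ?_ ?_ _ (χd.img_sq hbd hb.1) (χd.snd_ne hbd hb.2 ?_) ?_ ?_
      · rw [← Prod.snd_mul, ← χd.img_mul hdt.symm had, htay, ← Prod.pow_snd,
          χd.img_pow_eq_one hdy.symm hy3]
        rfl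
      · intro h
        exact hta (χd.img_inj hdt.symm had (Prod.ext hfa.symm h) ▸ Commute.refl t)
      · intro h
        rw [h, hdi] at hbi
        exact hβδ (congrArg Prod.snd hbi).symm
      · intro h
        exact hbt' (χd.img_inj hbd hdt.symm (Prod.ext hfb h))
      · rw [← Prod.snd_mul, ← Prod.snd_mul, ← χd.img_mul hbd hdt.symm, ← χd.img_mul hdt.symm hbd,
          hbt.eq]
  have hH : H3Rel a b c := ⟨haa, hb.1, hc.1, sq_commute haa hc.1 hac, hab, hbc⟩
  obtain ⟨hzz, hza, hzb, hzc⟩ := hH.center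
  have hhemi : (a * b * c) ^ 5 = 1 := by
    by_contra hz1
    have := hS.no_extra hs ht2 hb hc ⟨hzz, hz1⟩ hbt hct hbt' hbc hbcne hsb hzb hzc
    rw [this] at hza
    exact hta hza
  have hbase : BaseRel a b c d t :=
    { toH3Rel := hH, dd := hd.1, tt := ht1, ad := sq_commute haa hd.1 had,
      bd := sq_commute hb.1 hd.1 hbd, bt := sq_commute hb.1 ht1 hbt, ct := sq_commute hc.1 ht1 hct,
      dt := sq_commute hd.1 ht1 hdt, cd := hcd, ta := by rw [htay]; exact hy3, hemi := hhemi }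
  have hbcd : (b * c * d) ^ 5 = if s then 1 else t := by
    have hcomm := (hbt.mul_left hct).mul_left hdt
    refine χ.img_inj (hcomm.pow_left 5) (by split_ifs <;> simp) ?_
    rw [χ.img_pow hcomm, χ.img_mul (hbt.mul_left hct) hdt, χ.img_mul hbt hct, hbi, hci, hdi]
    refine Prod.ext ?_ ?_
    · show (e * e * e) ^ 5 = _
      rw [he]
      split_ifs with h
      · rw [fst_cube_five, χ.img_one]; rfl
      · rw [fst_cube_five, χ.img_self]; rfl
    · show (β * γ * δ) ^ 5 = _
      rw [hβγδ]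
      split_ifs with h
      · rw [χ.img_one]; rfl
      · rw [χ.img_self]; rfl
  by_cases hS' : s
  · exfalso
    rw [if_pos hS'] at hbcd
    have hmem := BadRel.mem { toBaseRel := hbase, bcd := hbcd : BadRel a b c d t }
    have hle : Subgroup.closure ({b, c, d, t} : Set G) ≤ centralizer ({t} : Set G) := by
      rw [Subgroup.closure_le]
      rintro v (rfl | rfl | rfl | rfl) <;> rw [SetLike.mem_coe, mem_centralizer_singleton_iff]
      exacts [hbt, hct, hdt]
    exact hta (mem_centralizer_singleton_iff.1 (hle hmem) : Commute a t).symm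
  · rw [if_neg hS'] at hbcd
    exact ⟨a, b, c, d, t, { toBaseRel := hbase, bcdt := by rw [hbcd, ht1] }, ht'⟩

end Setup

theorem closure_eq_top_of_good (hG : Nat.card G = 175560) {a b c d t : G} (h : GoodRel a b c d t)
    (ht : t ≠ 1) : Subgroup.closure ({a, b, c, d, t} : Set G) = ⊤ := by
  set L := Subgroup.closure ({a, b, c, d, t} : Set G) with hL
  let A : L := ⟨a, Subgroup.subset_closure (by simp)⟩
  let B : L := ⟨b, Subgroup.subset_closure (by simp)⟩
  let C : L := ⟨c, Subgroup.subset_closure (by simp)⟩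
  let D : L := ⟨d, Subgroup.subset_closure (by simp)⟩
  let T : L := ⟨t, Subgroup.subset_closure (by simp)⟩
  have hh : GoodRel A B C D T :=
    GoodRel.of_map L.subtype L.subtype_injective h
  let S : Set (L × Cfsg.Spor.J1) :=
    {(A, wordJ wA), (B, wordJ wB), (C, wordJ wC), (D, wordJ wD), (T, wordJ wT)}
  let M := Subgroup.closure S
  let A' : M := ⟨(A, wordJ wA), Subgroup.subset_closure (by simp [S])⟩
  let B' : M := ⟨(B, wordJ wB), Subgroup.subset_closure (by simp [S])⟩
  let C' : M := ⟨(C, wordJ wC), Subgroup.subset_closure (by simp [S])⟩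
  let D' : M := ⟨(D, wordJ wD), Subgroup.subset_closure (by simp [S])⟩
  let T' : M := ⟨(T, wordJ wT), Subgroup.subset_closure (by simp [S])⟩
  have h' := goodRel_wordJ
  have hM : GoodRel A' B' C' D' T' := by
    exact
      { aa := Subtype.ext (Prod.ext hh.aa h'.aa),
        bb := Subtype.ext (Prod.ext hh.bb h'.bb),
        cc := Subtype.ext (Prod.ext hh.cc h'.cc),
        dd := Subtype.ext (Prod.ext hh.dd h'.dd),
        tt := Subtype.ext (Prod.ext hh.tt h'.tt),
        ac := Subtype.ext (Prod.ext hh.ac h'.ac),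
        ab := Subtype.ext (Prod.ext hh.ab h'.ab),
        bc := Subtype.ext (Prod.ext hh.bc h'.bc),
        ad := Subtype.ext (Prod.ext hh.ad h'.ad),
        bd := Subtype.ext (Prod.ext hh.bd h'.bd),
        bt := Subtype.ext (Prod.ext hh.bt h'.bt),
        ct := Subtype.ext (Prod.ext hh.ct h'.ct),
        dt := Subtype.ext (Prod.ext hh.dt h'.dt),
        cd := Subtype.ext (Prod.ext hh.cd h'.cd),
        ta := Subtype.ext (Prod.ext hh.ta h'.ta),
        hemi := Subtype.ext (Prod.ext hh.hemi h'.hemi),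
        bcdt := Subtype.ext (Prod.ext hh.bcdt h'.bcdt) }
  have hMgen : Subgroup.closure ({A', B', C', D', T'} : Set M) = ⊤ := by
    rw [eq_top_iff, ← Subgroup.closure_closure_coe_preimage (k := S)]
    refine Subgroup.closure_mono ?_
    rintro ⟨x, hx⟩ hxm
    simp only [S, Set.mem_preimage, Set.mem_insert_iff, Set.mem_singleton_iff] at hxm
    rcases hxm with rfl | rfl | rfl | rfl | rfl <;> simp [A', B', C', D', T']
  have hJ : Nat.card Cfsg.Spor.J1 = 175560 := Cfsg.Agent.Janko.J1.isJ1.2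
  have hcard : Nat.card M ≤ 175560 := le_trans (hM.card_le hMgen) (by norm_num)
  let q : M →* Cfsg.Spor.J1 := (MonoidHom.snd L Cfsg.Spor.J1).comp M.subtype
  have hq := bijective_of_gens (A := A') (B := B') (C := C') (D := D') (T := T') hcard q hJ closure_wordJ
  let f : Cfsg.Spor.J1 →* L :=
    ((MonoidHom.fst L Cfsg.Spor.J1).comp M.subtype).comp (MulEquiv.ofBijective q hq).symm.toMonoidHom
  have hfT : f (q T') = T := by
    show (MonoidHom.fst L Cfsg.Spor.J1) (M.subtype ((MulEquiv.ofBijective q hq).symm (q T'))) = T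
    rw [show (MulEquiv.ofBijective q hq).symm (q T') = T' from (MulEquiv.ofBijective q hq).symm_apply_apply T']
    rfl
  have := Cfsg.Agent.Janko.J1.isSimpleGroup
  rcases IsSimpleGroup.eq_bot_or_eq_top_of_normal f.ker inferInstance with hk | hk
  · have hinj := (MonoidHom.ker_eq_bot_iff f).1 hk
    exact Subgroup.eq_top_of_le_card L (by rw [hG, ← hJ]; exact Nat.card_le_card_of_injective f hinj)
  · exfalso
    have h1 : q T' ∈ f.ker := hk ▸ Subgroup.mem_top _
    rw [MonoidHom.mem_ker, hfT] at h1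
    exact ht (congrArg Subtype.val h1)

/-- A simple group of order 175560 with an involution centraliser `2 × A₅` is `J₁`. -/
theorem isoJ1 (hG : Nat.card G = 175560) [IsSimpleGroup G] {t : G} (χ : Chart t) :
    Cfsg.Spor.IsoJ1 G := by
  have hS := setup_of hG χ
  obtain ⟨s, hs⟩ := hS.exists_sign
  obtain ⟨a, b, c, d, u, h, hu⟩ := hS.exists_good hs
  exact isoJ1_of_good hG h (closure_eq_top_of_good hG h hu)

end Cfsg.Agent.J1Unique
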