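import Cfsg.Agent.Lib.J1Unique.Fusion
import Cfsg.Agent.Lib.SmallSimple.Low

/-!
# The centraliser of an element of order five has order 30
-/

set_option autoImplicit false
set_option linter.unusedSectionVars false

namespace Cfsg.Agent.J1Unique

open Subgroup

variable {G : Type*} [Group G] [Finite G]

theorem mem_zpowers_of_conj_inv {z n : G} {q : ℕ} [Fact q.Prime] (hz : orderOf z = q)
    (hn : n * n = 1) (h : n * z * n⁻¹ ∈ zpowers z) : n * z * n⁻¹ = z ∨ n * z * n⁻¹ = z⁻¹ := by
  obtain ⟨k, hk⟩ := mem_zpowers_iff.1 h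
  have hconj : ∀ j : ℤ, n * z ^ j * n⁻¹ = (n * z * n⁻¹) ^ j := fun j => conj_zpow.symm
  have h2 : z ^ (k * k) = z ^ (1 : ℤ) := by
    rw [zpow_mul, hk, ← hconj, hk, zpow_one]
    calc n * (n * z * n⁻¹) * n⁻¹ = (n * n) * z * (n * n)⁻¹ := by group
      _ = z := by rw [hn]; group
  rw [zpow_eq_zpow_iff_modEq, hz, ← ZMod.intCast_eq_intCast_iff, Int.cast_mul, Int.cast_one,
    mul_self_eq_one_iff] at h2
  rcases h2 with h2 | h2
  · left
    rw [← hk]
    conv_rhs => rw [← zpow_one z]
    rw [zpow_eq_zpow_iff_modEq, hz, ← ZMod.intCast_eq_intCast_iff, h2, Int.cast_one]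
  · right
    rw [← hk, ← zpow_neg_one]
    rw [zpow_eq_zpow_iff_modEq, hz, ← ZMod.intCast_eq_intCast_iff, h2, Int.cast_neg, Int.cast_one]

theorem exists_normalized (C : Subgroup G) {q : ℕ} [hq : Fact q.Prime]
    (hcard : (Nat.card C).factorization q = 1) (huniq : Nat.card (Sylow q C) = 1) :
    ∃ z ∈ C, orderOf z = q ∧
      ∀ n : G, (∀ x ∈ C, n * x * n⁻¹ ∈ C) → n * z * n⁻¹ ∈ zpowers z := by
  obtain ⟨P⟩ : Nonempty (Sylow q C) := inferInstance
  have hP : Nat.card (P : Subgroup C) = q := by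
    rw [Sylow.card_eq_multiplicity, hcard, pow_one]
  obtain ⟨z, hz⟩ := exists_prime_orderOf_dvd_card' (G := (P : Subgroup C)) q (by rw [hP])
  rw [← Subgroup.orderOf_coe, ← Subgroup.orderOf_coe] at hz
  refine ⟨_, z.1.2, hz, fun n hn => ?_⟩
  set w : C := ⟨n * (z.1 : G) * n⁻¹, hn _ z.1.2⟩ with hw
  have hwo : orderOf w = q := by
    rw [← Subgroup.orderOf_coe, hw]
    exact (orderOf_injective (MulAut.conj n).toMonoidHom (MulAut.conj n).injective _).trans hz
  have hpg : IsPGroup q (zpowers w) :=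
    IsPGroup.of_card (n := 1) (by rw [Nat.card_zpowers, hwo, pow_one])
  obtain ⟨R, hR⟩ := hpg.exists_le_sylow
  have : Subsingleton (Sylow q C) := (Nat.card_eq_one_iff_unique.1 huniq).1
  rw [Subsingleton.elim R P] at hR
  have hzP : zpowers z.1 = (P : Subgroup C) :=
    Subgroup.eq_of_le_of_card_ge (zpowers_le.2 z.2)
      (by rw [hP, Nat.card_zpowers, ← Subgroup.orderOf_coe, hz])
  obtain ⟨k, hk⟩ := mem_zpowers_iff.1 (hzP.symm.le (hR (mem_zpowers w)))
  exact mem_zpowers_iff.2 ⟨k, congrArg Subtype.val hk⟩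

theorem card_sylow_eq_one {C : Type*} [Group C] [Finite C] {q : ℕ} [hq : Fact q.Prime] {d : ℕ}
    (hC : Nat.card C = q * d) (hd : ¬ q ∣ d) (h : ∀ k, k ≤ d → k ∣ d → k % q = 1 → k = 1) :
    Nat.card (Sylow q C) = 1 := by
  have hd0 : d ≠ 0 := fun e => hd (e ▸ dvd_zero q)
  obtain ⟨P⟩ : Nonempty (Sylow q C) := inferInstance
  have hP : Nat.card (P : Subgroup C) = q := by
    rw [Sylow.card_eq_multiplicity, hC, Nat.factorization_mul hq.1.ne_zero hd0]
    simp [hq.1.factorization_self, Nat.factorization_eq_zero_of_not_dvd hd]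
  have hidx : (P : Subgroup C).index = d := by
    have := Subgroup.card_mul_index (P : Subgroup C)
    rw [hP, hC] at this
    exact Nat.eq_of_mul_eq_mul_left hq.1.pos this
  have hdvd : Nat.card (Sylow q C) ∣ d := hidx ▸ P.card_dvd_index
  have hmod := card_sylow_modEq_one q C
  refine h _ (Nat.le_of_dvd (Nat.pos_of_ne_zero hd0) hdvd) hdvd ?_
  rw [hmod, Nat.mod_eq_of_lt hq.1.one_lt]

namespace Chart

variable {u : G} (χ : Chart u)
include χ

theorem img_pow_eq_one {v : G} (hv : Commute v u) {n : ℕ} (h : v ^ n = 1) : χ.img v ^ n = 1 := by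
  rw [← χ.img_pow hv, h, χ.img_one]

theorem eq_one_of_orderOf {v : G} (hv : Commute v u) {q : ℕ} (hq : q.Prime) (h2 : q ≠ 2) (h3 : q ≠ 3)
    (h5 : q ≠ 5) (h : v ^ q = 1) : v = 1 := by
  refine (χ.img_eq_one_iff hv).1 (Prod.ext ?_ ?_)
  · exact P5_odd_fst (hq.odd_of_ne_two h2) (χ.img_pow_eq_one hv h)
  · have hp : (χ.img v).2 ^ q = 1 := by rw [← Prod.pow_snd, χ.img_pow_eq_one hv h]; rfl
    rcases alt_orders (χ.img v).2 with h' | h' | h'
    · have := pow_gcd_eq_one.2 ⟨hp, h'⟩
      rwa [(Nat.coprime_primes hq Nat.prime_three).2 h3, pow_one] at this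
    · have := pow_gcd_eq_one.2 ⟨hp, h'⟩
      rwa [(Nat.coprime_primes hq Nat.prime_five).2 h5, pow_one] at this
    · have := pow_gcd_eq_one.2 ⟨hp, h'⟩
      rwa [(Nat.coprime_primes hq Nat.prime_two).2 h2, pow_one] at this

theorem sq_eq_one_of_four {v : G} (hv : Commute v u) (h : v ^ 4 = 1) : v ^ 2 = 1 := by
  refine χ.img_inj (hv.pow_left 2) (Commute.one_left u) ?_
  rw [χ.img_pow hv, χ.img_one]
  refine Prod.ext ?_ (alt_no_four _ ?_)
  · rw [Prod.pow_fst, pow_two, fst_sq]; rfl
  · rw [← Prod.pow_snd, χ.img_pow_eq_one hv h]; rfl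

end Chart

theorem zmod5_cases : ∀ a : ZMod 5, a = 0 ∨ a = 1 ∨ a = -1 ∨ a * a = -1 := by decide

namespace Setup

variable (hS : Setup G)
include hS

theorem sq_eq_one {w : G} : ∀ {k : ℕ}, w ^ 2 ^ k = 1 → w ^ 2 = 1
  | 0, h => by rw [pow_zero, pow_one] at h; rw [h, one_pow]
  | k + 1, h => by
    have hk : (w ^ 2) ^ 2 ^ k = 1 := by rw [← pow_mul, ← pow_succ', h]
    have h4 := sq_eq_one hk
    by_contra hne
    have hu : Inv2 (w ^ 2) := ⟨by rw [← pow_two, h4], hne⟩
    obtain ⟨χ⟩ := hS.chart _ hu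
    exact hne (χ.sq_eq_one_of_four ((Commute.refl w).pow_right 2) (by rw [← h4, ← pow_mul]))

theorem conj_five {n x : G} (hx : orderOf x = 5) (h : n * x * n⁻¹ ∈ zpowers x) :
    n * x * n⁻¹ = x ∨ n * x * n⁻¹ = x⁻¹ := by
  have := Fact.mk Nat.prime_five
  obtain ⟨k, hk⟩ := mem_zpowers_iff.1 h
  have key : ∀ a : ZMod 5, a = 0 ∨ a = 1 ∨ a = -1 ∨ a * a = -1 := zmod5_cases
  have heq : ∀ i j : ℤ, (i : ZMod 5) = (j : ZMod 5) → x ^ i = x ^ j := fun i j e => by
    rw [zpow_eq_zpow_iff_modEq, hx, ← ZMod.intCast_eq_intCast_iff, e]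
  rcases key (k : ZMod 5) with h0 | h1 | h1 | h1
  · have : n * x * n⁻¹ = 1 := by rw [← hk, heq k 0 (by rw [h0, Int.cast_zero]), zpow_zero]
    rw [conj_eq_one_iff] at this
    simp [this] at hx
  · left; rw [← hk, heq k 1 (by rw [h1, Int.cast_one]), zpow_one]
  · right; rw [← hk, heq k (-1) (by rw [h1, Int.cast_neg, Int.cast_one]), zpow_neg_one]
  · exfalso
    have h2 : n ^ 2 * x * (n ^ 2)⁻¹ = x⁻¹ := by
      calc n ^ 2 * x * (n ^ 2)⁻¹ = n * (n * x * n⁻¹) * n⁻¹ := by rw [pow_two]; group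
        _ = n * x ^ k * n⁻¹ := by rw [hk]
        _ = (n * x * n⁻¹) ^ k := conj_zpow.symm
        _ = x ^ (k * k) := by rw [← hk, ← zpow_mul]
        _ = x⁻¹ := by
          rw [heq (k * k) (-1) (by rw [Int.cast_mul, h1, Int.cast_neg, Int.cast_one]), zpow_neg_one]
    obtain ⟨a, j, hj, hord⟩ := Nat.exists_eq_two_pow_mul_odd (orderOf_pos n).ne'
    obtain ⟨i, rfl⟩ := hj
    have hodd : ∀ i : ℕ, (n ^ 2) ^ (2 * i + 1) * x * ((n ^ 2) ^ (2 * i + 1))⁻¹ = x⁻¹ := by
      intro i
      induction i with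
      | zero => simpa using h2
      | succ i ih =>
        rw [show 2 * (i + 1) + 1 = 1 + 1 + (2 * i + 1) by ring, pow_add, pow_add, pow_one]
        generalize (n ^ 2) ^ (2 * i + 1) = q at ih ⊢
        generalize n ^ 2 = m at h2 ⊢
        calc m * m * q * x * (m * m * q)⁻¹ = m * (m * (q * x * q⁻¹) * m⁻¹) * m⁻¹ := by group
          _ = m * (m * x * m⁻¹)⁻¹ * m⁻¹ := by rw [ih, conj_inv]
          _ = x⁻¹ := by rw [h2, inv_inv, h2]
    have h1' : (n ^ (2 * i + 1)) ^ 2 = 1 := hS.sq_eq_one (k := a) (by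
      rw [← pow_mul, mul_comm, ← hord, pow_orderOf_eq_one])
    have := hodd i
    rw [← pow_mul, mul_comm, pow_mul, h1'] at this
    simp only [one_mul, inv_one, mul_one] at this
    have hx2 : x ^ 2 = 1 := by rw [pow_two]; nth_rewrite 2 [this]; exact mul_inv_cancel x
    have := orderOf_dvd_of_pow_eq_one hx2
    rw [hx] at this
    norm_num at this

theorem four_not_dvd {x : G} (hx : orderOf x = 5) :
    ¬ 4 ∣ Nat.card (centralizer ({x} : Set G)) := by
  intro h4
  have := Fact.mk Nat.prime_two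
  obtain ⟨R, hR⟩ := Sylow.exists_subgroup_card_pow_prime (G := centralizer ({x} : Set G)) 2 (n := 2) h4
  have hsq : ∀ w ∈ R, w * w = 1 := by
    intro w hw
    apply Subtype.ext
    have : (⟨w, hw⟩ : R) ^ 4 = 1 := orderOf_dvd_iff_pow_eq_one.1 (by
      have h := orderOf_dvd_natCard (⟨w, hw⟩ : R)
      rw [hR] at h
      simpa using h)
    have h1 : (w : G) ^ 2 ^ 2 = 1 := congrArg Subtype.val (congrArg Subtype.val this)
    simpa [pow_two] using hS.sq_eq_one h1
  have h3 : ∃ a ∈ R, ∃ b ∈ R, a ≠ 1 ∧ b ≠ 1 ∧ a ≠ b := by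
    classical
    have : Fintype R := Fintype.ofFinite _
    have hc : 2 < (Finset.univ : Finset R).card := by
      rw [Finset.card_univ, ← Nat.card_eq_fintype_card, hR]; norm_num
    obtain ⟨a, b, c, -, -, -, hab, hac, hbc⟩ := Finset.two_lt_card_iff.1 hc
    have hne : ∀ p q : R, p ≠ q → (p : centralizer ({x} : Set G)) ≠ q := fun p q h e => h (Subtype.ext e)
    by_cases ha : (a : centralizer ({x} : Set G)) = 1
    · exact ⟨b, b.2, c, c.2, fun e => hne a b hab (ha.trans e.symm),
        fun e => hne a c hac (ha.trans e.symm), hne b c hbc⟩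
    by_cases hb : (b : centralizer ({x} : Set G)) = 1
    · exact ⟨a, a.2, c, c.2, ha, fun e => hne b c hbc (hb.trans e.symm), hne a c hac⟩
    exact ⟨a, a.2, b, b.2, ha, hb, hne a b hab⟩
  obtain ⟨a, ha, b, hb, ha1, hb1, hab⟩ := h3
  have hinv : ∀ w ∈ R, w ≠ 1 → Inv2 (w : G) := fun w hw h1 =>
    ⟨congrArg Subtype.val (hsq w hw), fun e => h1 (Subtype.ext e)⟩
  obtain ⟨χ⟩ := hS.chart _ (hinv a ha ha1)
  have hba : Commute (b : G) a := by
    have h1 : a * b * (a * b) = 1 := hsq _ (mul_mem ha hb)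
    have h2 := hsq a ha
    have h3 := hsq b hb
    have : b * a = a * b := by
      calc b * a = (a * a) * (b * a) * (b * b) := by rw [h2, h3]; group
        _ = a * (a * b * (a * b)) * b := by group
        _ = a * b := by rw [h1, mul_one]
    exact congrArg Subtype.val this
  have hxa : Commute x (a : G) := (mem_centralizer_singleton_iff.1 a.2).symm
  have hxb : Commute x (b : G) := (mem_centralizer_singleton_iff.1 b.2).symm
  have := χ.sq_of_mem hba (hinv b hb hb1) (fun e => hab (Subtype.ext e).symm) hxa hxb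
  rw [← pow_two] at this
  have := orderOf_dvd_of_pow_eq_one this
  rw [hx] at this
  norm_num at this

theorem card_normalizer_five {x c : G} (hx : orderOf x = 5) (hc : c * x * c⁻¹ = x⁻¹) :
    Nat.card (normalizer ((zpowers x : Subgroup G) : Set G)) =
      2 * Nat.card (centralizer ({x} : Set G)) := by
  set N := normalizer ((zpowers x : Subgroup G) : Set G)
  have hle : centralizer ({x} : Set G) ≤ N := by
    intro g hg
    rw [mem_centralizer_singleton_iff] at hg
    refine mem_normalizer_fintype fun y hy => ?_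
    obtain ⟨k, rfl⟩ := mem_zpowers_iff.1 hy
    rw [← conj_zpow, hg, mul_inv_cancel_right]
    exact zpow_mem (mem_zpowers x) k
  have hcN : c ∈ N := by
    refine mem_normalizer_fintype fun y hy => ?_
    obtain ⟨k, rfl⟩ := mem_zpowers_iff.1 hy
    rw [← conj_zpow, hc]
    exact zpow_mem (inv_mem (mem_zpowers x)) k
  have hxne : x⁻¹ ≠ x := by
    intro e
    have h : x ^ 2 = 1 := by rw [pow_two]; nth_rewrite 1 [← e]; exact inv_mul_cancel x
    have := orderOf_dvd_of_pow_eq_one h
    rw [hx] at this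
    norm_num at this
  have hidx : (centralizer ({x} : Set G)).relIndex N = 2 := by
    refine Subgroup.relIndex_eq_two_iff.2 ⟨c, hcN, fun n hn => ?_⟩
    have hn' := hS.conj_five hx ((Subgroup.mem_normalizer_iff.1 hn x).1 (mem_zpowers x))
    have e1 : n * c * x * (n * c)⁻¹ = (n * x * n⁻¹)⁻¹ := by
      calc n * c * x * (n * c)⁻¹ = n * (c * x * c⁻¹) * n⁻¹ := by group
        _ = (n * x * n⁻¹)⁻¹ := by rw [hc]; group
    have hmem : ∀ m : G, m ∈ centralizer ({x} : Set G) ↔ m * x * m⁻¹ = x := fun m => by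
      rw [mem_centralizer_singleton_iff, mul_inv_eq_iff_eq_mul]
    rw [hmem, hmem, e1, xor_iff_not_iff]
    rcases hn' with h | h <;> rw [h] <;> simp [hxne]
  rw [← Subgroup.card_mul_index ((centralizer ({x} : Set G)).subgroupOf N), mul_comm,
    Nat.card_congr (subgroupOfEquivOfLe hle).toEquiv]
  rw [show ((centralizer ({x} : Set G)).subgroupOf N).index = 2 from hidx]

variable [IsSimpleGroup G]

theorem five_data {t x c : G} (ht : Inv2 t) (hx : orderOf x = 5) (htx : Commute x t)
    (hc : Inv2 c) (hct : Commute c t) (hcx : c * x * c⁻¹ = x⁻¹) :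
    Nat.card (centralizer ({x} : Set G)) = 30 ∧
    ∃ y, orderOf y = 3 ∧ Commute y x ∧ t * y * t⁻¹ = y⁻¹ ∧
      (c * y * c⁻¹ = y ∨ c * y * c⁻¹ = y⁻¹) ∧
      ∀ y', orderOf y' = 3 → Commute y' x → y' ∈ zpowers y := by
  have := Fact.mk Nat.prime_five
  obtain ⟨χ⟩ := hS.chart t ht
  set C := centralizer ({x} : Set G) with hCdef
  have h10 : 10 ∣ Nat.card C := by
    have h5 : 5 ∣ Nat.card C :=
      hx ▸ Subgroup.orderOf_dvd_natCard _ (mem_centralizer_singleton_iff.2 rfl)
    have h2 : 2 ∣ Nat.card C :=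
      ht.orderOf ▸ Subgroup.orderOf_dvd_natCard _ (mem_centralizer_singleton_iff.2 htx.symm)
    exact Nat.Coprime.mul_dvd_of_dvd_of_dvd (by norm_num : Nat.Coprime 2 5) h2 h5
  obtain ⟨m, hm⟩ := h10
  have hN := hS.card_normalizer_five hx hcx
  rw [hm] at hN
  have hCG : Nat.card C ∣ 175560 := hS.card ▸ card_subgroup_dvd_card C
  have hm4 : ¬ 2 ∣ m := fun ⟨k, hk⟩ => hS.four_not_dvd hx ⟨5 * k, by rw [hm, hk]; ring⟩
  have hidx := Subgroup.card_mul_index (normalizer ((zpowers x : Subgroup G) : Set G))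
  rw [hN, hS.card] at hidx
  set i := (normalizer ((zpowers x : Subgroup G) : Set G)).index with hi
  have hmi : m * i = 8778 := by linarith
  have hi5 : i % 5 = 1 := by
    obtain ⟨P, hP⟩ := (IsPGroup.of_card (n := 1) (p := 5) (G := zpowers x)
      (by rw [Nat.card_zpowers, hx, pow_one])).exists_le_sylow
    have hPc : Nat.card (P : Subgroup G) = 5 := by
      rw [Sylow.card_eq_multiplicity, hS.card]
      have h : (175560 : ℕ) = 5 * 35112 := by norm_num
      rw [h, Nat.factorization_mul (by norm_num) (by norm_num)]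
      simp [Nat.prime_five.factorization_self,
        Nat.factorization_eq_zero_of_not_dvd (show ¬ 5 ∣ 35112 by norm_num)]
    have hPe : zpowers x = (P : Subgroup G) :=
      Subgroup.eq_of_le_of_card_ge hP (by rw [hPc, Nat.card_zpowers, hx])
    have hn : (normalizer ((zpowers x : Subgroup G) : Set G)).index = Nat.card (Sylow 5 G) := by
      rw [hPe]
      exact P.card_eq_index_normalizer.symm
    rw [hi, hn]
    exact card_sylow_modEq_one 5 G
  have hlist : m = 3 ∨ m = 33 ∨ m = 133 ∨ m = 1463 := by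
    have key : ∀ k ∈ (8778 : ℕ).divisors, 8778 / k % 5 = 1 → ¬ 2 ∣ k →
        k = 3 ∨ k = 33 ∨ k = 133 ∨ k = 1463 := by decide +kernel
    have hm0 : 0 < m := Nat.pos_of_ne_zero fun h => by simp [h] at hmi
    refine key m (Nat.mem_divisors.2 ⟨⟨i, hmi.symm⟩, by norm_num⟩) ?_ hm4
    rw [← hmi, Nat.mul_div_cancel_left _ hm0, hi5]
  have hnt : ∀ x' ∈ C, t * x' * t⁻¹ ∈ C := fun x' hx' =>
    mul_mem (mul_mem (mem_centralizer_singleton_iff.2 htx.symm) hx')
      (inv_mem (mem_centralizer_singleton_iff.2 htx.symm))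
  have hnc : ∀ x' ∈ C, c * x' * c⁻¹ ∈ C := by
    intro x' hx'
    rw [hCdef, mem_centralizer_singleton_iff] at hx' ⊢
    have h1 : c⁻¹ * x * c = x⁻¹ := by
      calc c⁻¹ * x * c = c⁻¹ * (c * x * c⁻¹)⁻¹ * c := by rw [hcx, inv_inv]
        _ = x⁻¹ := by group
    calc c * x' * c⁻¹ * x = c * (x' * (c⁻¹ * x * c)) * c⁻¹ := by group
      _ = c * (c⁻¹ * x * c * x') * c⁻¹ := by rw [h1, ((show Commute x' x from hx').inv_right).eq]
      _ = x * (c * x' * c⁻¹) := by group
  have inv_of : ∀ (w : G), Inv2 w → w * w = 1 := fun w h => h.1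
  have noprime : ∀ q : ℕ, q.Prime → q ≠ 2 → q ≠ 3 → q ≠ 5 → ∀ z ∈ C, orderOf z = q →
      t * z * t⁻¹ ∈ zpowers z → c * z * c⁻¹ ∈ zpowers z → False := by
    intro q hq h2 h3 h5 z _ hzq hzt hzc
    have := Fact.mk hq
    have hfix : ∀ w : G, Inv2 w → w * z * w⁻¹ = z → False := by
      intro w hw hwz
      obtain ⟨χw⟩ := hS.chart w hw
      have : z = 1 := χw.eq_one_of_orderOf (mul_inv_eq_iff_eq_mul.1 hwz).symm hq h2 h3 h5
        (hzq ▸ pow_orderOf_eq_one z)
      rw [this, orderOf_one] at hzq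
      exact hq.one_lt.ne hzq
    rcases mem_zpowers_of_conj_inv hzq ht.1 hzt with h | h
    · exact hfix t ht h
    rcases mem_zpowers_of_conj_inv hzq hc.1 hzc with h' | h'
    · exact hfix c hc h'
    refine hfix (c * t) ⟨?_, fun e => ?_⟩ ?_
    · calc c * t * (c * t) = c * (t * c) * t := by group
        _ = c * c * (t * t) := by rw [← hct.eq]; group
        _ = 1 := by rw [hc.1, ht.1, one_mul]
    · have hct' : c = t := by
        calc c = c * (t * t) := by rw [ht.1, mul_one]
          _ = t := by rw [← mul_assoc, e, one_mul]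
      rw [hct', ← htx.eq, mul_inv_cancel_right] at hcx
      have h : x ^ 2 = 1 := by rw [pow_two]; nth_rewrite 1 [hcx]; exact inv_mul_cancel x
      have := orderOf_dvd_of_pow_eq_one h
      rw [hx] at this
      norm_num at this
    · calc c * t * z * (c * t)⁻¹ = c * (t * z * t⁻¹) * c⁻¹ := by group
        _ = (c * z * c⁻¹)⁻¹ := by rw [h]; group
        _ = z := by rw [h', inv_inv]
  have hm3 : m = 3 := by
    rcases hlist with h | h | h | h
    · exact h
    · exfalso
      subst h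
      have := Fact.mk (show Nat.Prime 11 by norm_num)
      obtain ⟨z, hz, hzo, hzn⟩ := exists_normalized C (q := 11)
        (by rw [hm, show (10 * 33 : ℕ) = 11 * 30 by norm_num, Nat.factorization_mul (by norm_num) (by norm_num)]
            simp [(show Nat.Prime 11 by norm_num).factorization_self,
              Nat.factorization_eq_zero_of_not_dvd (show ¬ 11 ∣ 30 by norm_num)])
        (card_sylow_eq_one (d := 30) (by rw [hm]) (by norm_num) (by decide))
      exact noprime 11 (by norm_num) (by norm_num) (by norm_num) (by norm_num) z hz hzo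
        (hzn t hnt) (hzn c hnc)
    · exfalso
      subst h
      have := Fact.mk (show Nat.Prime 19 by norm_num)
      obtain ⟨z, hz, hzo, hzn⟩ := exists_normalized C (q := 19)
        (by rw [hm, show (10 * 133 : ℕ) = 19 * 70 by norm_num, Nat.factorization_mul (by norm_num) (by norm_num)]
            simp [(show Nat.Prime 19 by norm_num).factorization_self,
              Nat.factorization_eq_zero_of_not_dvd (show ¬ 19 ∣ 70 by norm_num)])
        (card_sylow_eq_one (d := 70) (by rw [hm]) (by norm_num) (by decide))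
      exact noprime 19 (by norm_num) (by norm_num) (by norm_num) (by norm_num) z hz hzo
        (hzn t hnt) (hzn c hnc)
    · exfalso
      subst h
      have hi6 : i = 6 := by omega
      have hne : normalizer ((zpowers x : Subgroup G) : Set G) ≠ ⊤ := by
        intro e; rw [hi, e, Subgroup.index_top] at hi6; norm_num at hi6
      have := SmallSimple.card_dvd_factorial hne
      rw [← hi, hi6, hS.card] at this
      norm_num [Nat.factorial] at this
  subst hm3
  have hC30 : Nat.card C = 30 := hm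
  refine ⟨hC30, ?_⟩
  have := Fact.mk Nat.prime_three
  have hfac : (Nat.card C).factorization 3 = 1 := by
    rw [hC30, show (30 : ℕ) = 3 * 10 by norm_num, Nat.factorization_mul (by norm_num) (by norm_num)]
    simp [Nat.prime_three.factorization_self,
      Nat.factorization_eq_zero_of_not_dvd (show ¬ 3 ∣ 10 by norm_num)]
  obtain ⟨P⟩ : Nonempty (Sylow 3 C) := inferInstance
  have hPc : Nat.card (P : Subgroup C) = 3 := by rw [Sylow.card_eq_multiplicity, hfac, pow_one]
  have huniq : Nat.card (Sylow 3 C) = 1 := by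
    have hxC : x ∈ C := mem_centralizer_singleton_iff.2 rfl
    have hxn : (⟨x, hxC⟩ : C) ∈ normalizer ((P : Subgroup C) : Set C) := by
      refine mem_normalizer_fintype fun w hw => ?_
      have : (⟨x, hxC⟩ : C) * w = w * ⟨x, hxC⟩ := Subtype.ext (mem_centralizer_singleton_iff.1 w.2).symm
      rw [this, mul_inv_cancel_right]
      exact hw
    have h5 : 5 ∣ Nat.card (normalizer ((P : Subgroup C) : Set C)) := by
      have h := Subgroup.orderOf_dvd_natCard _ hxn
      rwa [← Subgroup.orderOf_coe, hx] at h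
    have h3 : 3 ∣ Nat.card (normalizer ((P : Subgroup C) : Set C)) :=
      by
        have h := Subgroup.card_dvd_of_le (le_normalizer (H := (P : Subgroup C)))
        rwa [hPc] at h
    have h15 := Nat.Coprime.mul_dvd_of_dvd_of_dvd (by norm_num : Nat.Coprime 3 5) h3 h5
    have hmul := Subgroup.card_mul_index (normalizer ((P : Subgroup C) : Set C))
    have hPi : (normalizer ((P : Subgroup C) : Set C)).index = Nat.card (Sylow 3 C) :=
      P.card_eq_index_normalizer.symm
    rw [hC30, hPi] at hmul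
    obtain ⟨a, ha⟩ := h15
    rw [ha] at hmul
    have hmod := card_sylow_modEq_one 3 C
    unfold Nat.ModEq at hmod
    have h2 : Nat.card (Sylow 3 C) ∣ 2 := ⟨a, by linarith⟩
    have := Nat.le_of_dvd (by norm_num) h2
    interval_cases Nat.card (Sylow 3 C) <;> omega
  obtain ⟨y, hy, hyo, hyn⟩ := exists_normalized C hfac huniq
  have hyx : Commute y x := mem_centralizer_singleton_iff.1 hy
  refine ⟨y, hyo, hyx, ?_, mem_zpowers_of_conj_inv hyo hc.1 (hyn c hnc), ?_⟩
  · rcases mem_zpowers_of_conj_inv hyo ht.1 (hyn t hnt) with h | h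
    · exfalso
      have hyt : Commute y t := (mul_inv_eq_iff_eq_mul.1 h).symm
      have h3 : (χ.img y).2 ^ 3 = 1 := by
        rw [← Prod.pow_snd, χ.img_pow_eq_one hyt (hyo ▸ pow_orderOf_eq_one y)]; rfl
      have hx5 : (χ.img x).2 ^ 5 = 1 := by
        rw [← Prod.pow_snd, χ.img_pow_eq_one htx (hx ▸ pow_orderOf_eq_one x)]; rfl
      have hx1 : (χ.img x).2 ≠ 1 := by
        intro e
        have : x = 1 := (χ.img_eq_one_iff htx).1
          (Prod.ext (P5_odd_fst (by decide : Odd 5) (χ.img_pow_eq_one htx (hx ▸ pow_orderOf_eq_one x))) e)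
        rw [this, orderOf_one] at hx
        norm_num at hx
      have h5 := alt_cent_five _ hx5 hx1 (χ.img y).2
        (by rw [← Prod.snd_mul, ← Prod.snd_mul, ← χ.img_mul hyt htx, ← χ.img_mul htx hyt, hyx.eq])
      have hy1 : (χ.img y).2 = 1 := by
        have := pow_gcd_eq_one.2 ⟨h3, h5⟩
        rwa [show Nat.gcd 3 5 = 1 by norm_num, pow_one] at this
      have : y = 1 := (χ.img_eq_one_iff hyt).1
        (Prod.ext (P5_odd_fst (by decide : Odd 3) (χ.img_pow_eq_one hyt (hyo ▸ pow_orderOf_eq_one y))) hy1)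
      rw [this, orderOf_one] at hyo
      norm_num at hyo
    · exact h
  · intro y' hy' hy'x
    have hpg : IsPGroup 3 (zpowers (⟨y', mem_centralizer_singleton_iff.2 hy'x⟩ : C)) :=
      IsPGroup.of_card (n := 1) (by rw [Nat.card_zpowers, ← Subgroup.orderOf_coe, hy', pow_one])
    obtain ⟨R, hR⟩ := hpg.exists_le_sylow
    have hpy : IsPGroup 3 (zpowers (⟨y, hy⟩ : C)) :=
      IsPGroup.of_card (n := 1) (by rw [Nat.card_zpowers, ← Subgroup.orderOf_coe, hyo, pow_one])
    obtain ⟨R', hR'⟩ := hpy.exists_le_sylow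
    have : Subsingleton (Sylow 3 C) := (Nat.card_eq_one_iff_unique.1 huniq).1
    have hR'e : zpowers (⟨y, hy⟩ : C) = (R' : Subgroup C) := by
      refine Subgroup.eq_of_le_of_card_ge hR' ?_
      rw [Sylow.card_eq_multiplicity, hfac, pow_one, Nat.card_zpowers, ← Subgroup.orderOf_coe, hyo]
    rw [Subsingleton.elim R R'] at hR
    obtain ⟨k, hk⟩ := mem_zpowers_iff.1 (hR'e.symm.le (hR (mem_zpowers _)))
    exact mem_zpowers_iff.2 ⟨k, congrArg Subtype.val hk⟩

end Setup

end Cfsg.Agent.J1Unique
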