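import Cfsg.Agent.Lib.J1Unique.Local

/-!
# One class of involutions
-/

set_option autoImplicit false
set_option linter.unusedSectionVars false

namespace Cfsg.Agent.J1Unique

open Subgroup

variable {G : Type*} [Group G] [Finite G]

/-- A chart transported by conjugation. -/
noncomputable def Chart.conj {u : G} (χ : Chart u) (g : G) {v : G} (h : g * u * g⁻¹ = v) : Chart v where
  iso :=
    (MulEquiv.subgroupCongr (show (centralizer ({u} : Set G)).map (MulAut.conj g).toMonoidHom =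
      centralizer ({v} : Set G) by rw [map_centralizer_conj, h])).symm.trans
      (((centralizer ({u} : Set G)).equivMapOfInjective _ (MulAut.conj g).injective).symm.trans χ.iso)
  hu := h ▸ χ.hu.conj g

theorem setup_of (hG : Nat.card G = 175560) [IsSimpleGroup G] {t : G} (χ : Chart t) : Setup G := by
  have := Fact.mk Nat.prime_two
  obtain ⟨γ, hγ2, hγ1, -, -⟩ : ∃ γ : A5, γ * γ = 1 ∧ γ ≠ 1 ∧ True ∧ True := by
    refine ⟨⟨Equiv.swap 0 1 * Equiv.swap 2 3, Equiv.Perm.mem_alternatingGroup.mpr (by decide)⟩,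
      ?_, ?_, trivial, trivial⟩ <;> decide
  obtain ⟨v, hv, hvi⟩ := χ.exists_img (1, γ)
  have hvin : Inner t v := (χ.inner_iff hv).2 (by rw [hvi])
  have hvt : v ≠ t := fun e => χ.not_inner_self (e ▸ hvin)
  have hv2 : Inv2 v := by
    refine ⟨χ.img_inj (hv.mul_left hv) (Commute.one_left t) ?_, fun e => hγ1 ?_⟩
    · rw [χ.img_mul hv hv, hvi, χ.img_one]
      exact Prod.ext (one_mul _) hγ2
    · rw [e, χ.img_one] at hvi
      exact (congrArg Prod.snd hvi).symm
  obtain ⟨S, hSE, hcomm⟩ := χ.exists_sylow hG hv hv2 hvt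
  have memS : ∀ {x : G}, x ∈ (S : Subgroup G) → Commute x t ∧ Commute x v ∧ x * x = 1 := by
    intro x hx
    obtain ⟨h1, h2⟩ := mem_E2.1 (hSE.le hx)
    exact ⟨h1, h2, χ.sq_of_mem hv hv2 hvt h1 h2⟩
  have htS : t ∈ (S : Subgroup G) := hSE.symm.le (mem_E2.2 ⟨Commute.refl t, hv.symm⟩)
  let D : Subgroup G := ⁅centralizer ({t} : Set G), centralizer ({t} : Set G)⁆
  let Q : Subgroup G := D ⊓ (S : Subgroup G)
  have hQi : Q.relIndex (S : Subgroup G) = 2 := by
    refine Subgroup.relIndex_eq_two_iff.2 ⟨t, htS, fun b hb => ?_⟩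
    have hbt := (memS hb).1
    have hmem : ∀ x ∈ (S : Subgroup G), (x ∈ Q ↔ Inner t x) := fun x hx =>
      ⟨fun h => h.1, fun h => ⟨h, hx⟩⟩
    rw [hmem b hb, hmem _ (mul_mem hb htS), χ.inner_mul hbt (Commute.refl t)]
    have := χ.not_inner_self
    simp only [xor_iff_not_iff]
    tauto
  obtain ⟨g, hg⟩ : ∃ g : G, g * t * g⁻¹ ∈ Q := by
    by_contra h
    simp only [not_exists] at h
    obtain ⟨M, hM, hidx, -⟩ := Transfer.exists_index_two_of_involution S Q inf_le_right hQi t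
      (by rw [pow_two]; exact χ.hu.1) htS (fun h' => χ.not_inner_self h'.1) h
    rcases hM.eq_bot_or_eq_top with rfl | rfl
    · rw [Subgroup.index_bot, hG] at hidx; omega
    · rw [Subgroup.index_top] at hidx; omega
  set i₁ := g * t * g⁻¹ with hi₁
  have hi₁2 : Inv2 i₁ := χ.hu.conj g
  have hi₁in : Inner t i₁ := hg.1
  have hi₁t : i₁ ≠ t := fun e => χ.not_inner_self (e ▸ hi₁in)
  have hi₁c : Commute i₁ t := (memS hg.2).1
  -- inner involutions are conjugate to `t`
  have hinner : ∀ x : G, Commute x t → Inv2 x → Inner t x → IsConj t x := by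
    intro x hx hx2 hxin
    have hxt : x ≠ t := fun e => χ.not_inner_self (e ▸ hxin)
    obtain ⟨h, -, hh⟩ := χ.conj_inner hi₁c hi₁2 hi₁t hx hx2 hxt (iff_of_true hi₁in hxin)
    exact (isConj_iff.2 ⟨g, rfl⟩).trans (isConj_iff.2 ⟨h, hh⟩)
  -- some outer involution is conjugate to `t`
  have houter : ∃ o ∈ (S : Subgroup G), Inv2 o ∧ o ≠ t ∧ ¬ Inner t o ∧ IsConj t o := by
    by_contra hno
    have hTin : ∀ x ∈ (S : Subgroup G), Inv2 x → IsConj t x → x ≠ t → Inner t x := by
      intro x hx hx2 hconj hxt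
      by_contra hxi
      exact hno ⟨x, hx, hx2, hxt, hxi, hconj⟩
    obtain ⟨n, hn, hnt⟩ := Sylow.conj_eq_normalizer_conj_of_mem S t g⁻¹ htS
      (by rw [inv_inv]; exact hg.2)
    rw [inv_inv, ← hi₁] at hnt
    -- a second inner involution
    obtain ⟨δ, hδ2, hδ1, hδne, hδc⟩ :=
      alt_klein_pick _ (χ.img_sq hi₁c hi₁2.1) (χ.snd_ne hi₁c hi₁2.2 hi₁t)
    obtain ⟨y, hy, hyi⟩ := χ.exists_img (1, δ)
    have hyy : y * y = 1 := by
      refine χ.img_inj (hy.mul_left hy) (Commute.one_left t) ?_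
      rw [χ.img_mul hy hy, hyi, χ.img_one]
      exact Prod.ext (one_mul _) hδ2
    have hy2 : Inv2 y := ⟨hyy, fun e => hδ1 (by
      rw [e, χ.img_one] at hyi; exact (congrArg Prod.snd hyi).symm)⟩
    have hyc : Commute i₁ y := by
      refine χ.img_inj (hi₁c.mul_left hy) (hy.mul_left hi₁c) ?_
      rw [χ.img_mul hi₁c hy, χ.img_mul hy hi₁c, hyi]
      exact Prod.ext (mul_comm _ _) hδc
    have hyi₁ : y ≠ i₁ := fun e => hδne (by rw [← e, hyi])
    have hyin : Inner t y := (χ.inner_iff hy).2 (by rw [hyi])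
    have hyS : y ∈ (S : Subgroup G) := by
      refine hSE.symm.le (mem_E2.2 ⟨hy, ?_⟩)
      have h1 : Commute v i₁ := (memS hg.2).2.1.symm
      exact χ.klein hi₁c hi₁2 hi₁t hv hv2.1 h1.symm hy hyc.symm
    -- pull back
    set x := n * y * n⁻¹ with hx
    have hxS : x ∈ (S : Subgroup G) := (Subgroup.mem_normalizer_iff.1 hn y).1 hyS
    have hnx : n⁻¹ * x * n = y := by rw [hx]; group
    have hxconj : IsConj t x :=
      (hinner y hy hy2 hyin).trans (isConj_iff.2 ⟨n, rfl⟩)
    have hxt : x ≠ t := fun e => hyi₁ (by rw [← hnx, e, hnt])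
    have hxin : Inner t x := hTin x hxS (hy2.conj n) hxconj hxt
    have hxc : Commute x t := (memS hxS).1
    have htx : ¬ Inner t (t * x) := by
      rw [χ.inner_mul (Commute.refl t) hxc]
      have := χ.not_inner_self
      tauto
    have htx2 : Inv2 (t * x) := by
      refine ⟨?_, fun e => hxt ?_⟩
      · calc t * x * (t * x) = t * (x * t) * x := by group
          _ = (t * t) * (x * x) := by rw [hxc.eq]; group
          _ = 1 := by rw [χ.hu.1, (memS hxS).2.2, one_mul]
      · exact (mul_eq_one_iff_eq_inv.1 e).symm ▸ (inv_eq_of_mul_eq_one_right (memS hxS).2.2).symm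
    have hprod : n⁻¹ * (t * x) * n = i₁ * y := by
      rw [hnt, ← hnx]
      group
    have hin : Inner t (i₁ * y) := by
      rw [χ.inner_mul hi₁c hy]
      exact iff_of_true hi₁in hyin
    have h2 : Inv2 (i₁ * y) := by
      refine ⟨?_, fun e => hyi₁ ?_⟩
      · calc i₁ * y * (i₁ * y) = i₁ * (y * i₁) * y := by group
          _ = (i₁ * i₁) * (y * y) := by rw [← hyc.eq]; group
          _ = 1 := by rw [hi₁2.1, hyy, one_mul]
      · calc y = i₁ * i₁ * y := by rw [hi₁2.1, one_mul]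
          _ = i₁ := by rw [mul_assoc, e, mul_one]
    have hconj2 : IsConj t (t * x) :=
      (hinner _ (hi₁c.mul_left hy) h2 hin).trans (isConj_iff.2 ⟨n, by rw [← hprod]; group⟩)
    refine htx (hTin _ (mul_mem htS hxS) htx2 hconj2 fun e => ?_)
    exact (hy2.conj n).2 (mul_eq_left.1 e)
  obtain ⟨o, hoS, ho2, hot, hoout, hoconj⟩ := houter
  -- every involution of `S` is conjugate to `t`
  have hSall : ∀ x ∈ (S : Subgroup G), x ≠ 1 → IsConj t x := by
    intro x hx hx1
    obtain ⟨hxc, -, hxx⟩ := memS hx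
    by_cases hxt : x = t
    · rw [hxt]
    by_cases hxin : Inner t x
    · exact hinner x hxc ⟨hxx, hx1⟩ hxin
    · obtain ⟨h, -, hh⟩ := χ.conj_inner (memS hoS).1 ho2 hot hxc ⟨hxx, hx1⟩ hxt
        (iff_of_false hoout hxin)
      exact hoconj.trans (isConj_iff.2 ⟨h, hh⟩)
  have hall : ∀ u : G, Inv2 u → IsConj t u := by
    intro u hu
    have hp : IsPGroup 2 (zpowers u) :=
      IsPGroup.of_card (n := 1) (by rw [Nat.card_zpowers, hu.orderOf, pow_one])
    obtain ⟨P, hP⟩ := hp.exists_le_sylow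
    obtain ⟨a, rfl⟩ := MulAction.exists_smul_eq G S P
    have huP := hP (mem_zpowers u)
    rw [Sylow.coe_subgroup_smul, mem_pointwise_smul_iff_inv_smul_mem] at huP
    have h1 : a⁻¹ * u * a ∈ (S : Subgroup G) := by
      have : (MulAut.conj a⁻¹ : MulAut G) u = a⁻¹ * u * a := by simp
      simpa using huP
    refine (hSall _ h1 fun e => hu.2 ?_).trans (isConj_iff.2 ⟨a, by group⟩)
    calc u = a * (a⁻¹ * u * a) * a⁻¹ := by group
      _ = 1 := by rw [e]; group
  refine ⟨hG, fun u hu => ?_, fun u w hu hw => (hall u hu).symm.trans (hall w hw)⟩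
  obtain ⟨a, ha⟩ := isConj_iff.1 (hall u hu)
  exact ⟨χ.conj a ha⟩

end Cfsg.Agent.J1Unique
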