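import Cfsg.Agent.Lib.J1Unique.Table

/-!
# Two groups of order 175560 with such generators are isomorphic
-/

set_option autoImplicit false
set_option linter.unusedSimpArgs false

namespace Cfsg.Agent.J1Unique

variable {G H : Type*} [Group G] [Group H]

theorem GoodRel.map {a b c d t : G} (h : GoodRel a b c d t) (f : G →* H) :
    GoodRel (f a) (f b) (f c) (f d) (f t) := by
  exact
    { aa := by simp only [← map_mul, ← map_pow, h.aa, map_one],
      bb := by simp only [← map_mul, ← map_pow, h.bb, map_one],
      cc := by simp only [← map_mul, ← map_pow, h.cc, map_one],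
      dd := by simp only [← map_mul, ← map_pow, h.dd, map_one],
      tt := by simp only [← map_mul, ← map_pow, h.tt, map_one],
      ac := by simp only [← map_mul, ← map_pow, h.ac, map_one],
      ab := by simp only [← map_mul, ← map_pow, h.ab, map_one],
      bc := by simp only [← map_mul, ← map_pow, h.bc, map_one],
      ad := by simp only [← map_mul, ← map_pow, h.ad, map_one],
      bd := by simp only [← map_mul, ← map_pow, h.bd, map_one],
      bt := by simp only [← map_mul, ← map_pow, h.bt, map_one],
      ct := by simp only [← map_mul, ← map_pow, h.ct, map_one],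
      dt := by simp only [← map_mul, ← map_pow, h.dt, map_one],
      cd := by simp only [← map_mul, ← map_pow, h.cd, map_one],
      ta := by simp only [← map_mul, ← map_pow, h.ta, map_one],
      hemi := by simp only [← map_mul, ← map_pow, h.hemi, map_one],
      bcdt := by simp only [← map_mul, ← map_pow, h.bcdt, map_one] }

theorem GoodRel.of_map {a b c d t : G} (f : G →* H) (hf : Function.Injective f)
    (h : GoodRel (f a) (f b) (f c) (f d) (f t)) : GoodRel a b c d t := by
  exact
    { aa := hf (by simpa only [map_mul, map_pow, map_one] using h.aa),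
      bb := hf (by simpa only [map_mul, map_pow, map_one] using h.bb),
      cc := hf (by simpa only [map_mul, map_pow, map_one] using h.cc),
      dd := hf (by simpa only [map_mul, map_pow, map_one] using h.dd),
      tt := hf (by simpa only [map_mul, map_pow, map_one] using h.tt),
      ac := hf (by simpa only [map_mul, map_pow, map_one] using h.ac),
      ab := hf (by simpa only [map_mul, map_pow, map_one] using h.ab),
      bc := hf (by simpa only [map_mul, map_pow, map_one] using h.bc),
      ad := hf (by simpa only [map_mul, map_pow, map_one] using h.ad),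
      bd := hf (by simpa only [map_mul, map_pow, map_one] using h.bd),
      bt := hf (by simpa only [map_mul, map_pow, map_one] using h.bt),
      ct := hf (by simpa only [map_mul, map_pow, map_one] using h.ct),
      dt := hf (by simpa only [map_mul, map_pow, map_one] using h.dt),
      cd := hf (by simpa only [map_mul, map_pow, map_one] using h.cd),
      ta := hf (by simpa only [map_mul, map_pow, map_one] using h.ta),
      hemi := hf (by simpa only [map_mul, map_pow, map_one] using h.hemi),
      bcdt := hf (by simpa only [map_mul, map_pow, map_one] using h.bcdt) }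

theorem bijective_of_gens {M X : Type*} [Group M] [Group X] [Finite M] [Finite X]
    (hM : Nat.card M ≤ 175560) {A B C D T : M} (q : M →* X) (hX : Nat.card X = 175560)
    (hg : Subgroup.closure ({q A, q B, q C, q D, q T} : Set X) = ⊤) : Function.Bijective q := by
  have hs : Function.Surjective q := by
    rw [← MonoidHom.range_eq_top, eq_top_iff, ← hg, Subgroup.closure_le]
    rintro x (rfl | rfl | rfl | rfl | rfl) <;> exact ⟨_, rfl⟩
  exact (Nat.bijective_iff_surjective_and_card q).2
    ⟨hs, le_antisymm (hX ▸ hM) (Nat.card_le_card_of_surjective _ hs)⟩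

theorem nonempty_mulEquiv [Finite G] [Finite H] (hG : Nat.card G = 175560) (hH : Nat.card H = 175560)
    {a b c d t : G} (h : GoodRel a b c d t) (hgen : Subgroup.closure ({a, b, c, d, t} : Set G) = ⊤)
    {a' b' c' d' t' : H} (h' : GoodRel a' b' c' d' t')
    (hgen' : Subgroup.closure ({a', b', c', d', t'} : Set H) = ⊤) : Nonempty (G ≃* H) := by
  let S : Set (G × H) := {(a, a'), (b, b'), (c, c'), (d, d'), (t, t')}
  let M := Subgroup.closure S
  let A : M := ⟨(a, a'), Subgroup.subset_closure (by simp [S])⟩
  let B : M := ⟨(b, b'), Subgroup.subset_closure (by simp [S])⟩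
  let C : M := ⟨(c, c'), Subgroup.subset_closure (by simp [S])⟩
  let D : M := ⟨(d, d'), Subgroup.subset_closure (by simp [S])⟩
  let T : M := ⟨(t, t'), Subgroup.subset_closure (by simp [S])⟩
  have hM : GoodRel A B C D T := by
    exact
      { aa := Subtype.ext (Prod.ext h.aa h'.aa),
        bb := Subtype.ext (Prod.ext h.bb h'.bb),
        cc := Subtype.ext (Prod.ext h.cc h'.cc),
        dd := Subtype.ext (Prod.ext h.dd h'.dd),
        tt := Subtype.ext (Prod.ext h.tt h'.tt),
        ac := Subtype.ext (Prod.ext h.ac h'.ac),
        ab := Subtype.ext (Prod.ext h.ab h'.ab),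
        bc := Subtype.ext (Prod.ext h.bc h'.bc),
        ad := Subtype.ext (Prod.ext h.ad h'.ad),
        bd := Subtype.ext (Prod.ext h.bd h'.bd),
        bt := Subtype.ext (Prod.ext h.bt h'.bt),
        ct := Subtype.ext (Prod.ext h.ct h'.ct),
        dt := Subtype.ext (Prod.ext h.dt h'.dt),
        cd := Subtype.ext (Prod.ext h.cd h'.cd),
        ta := Subtype.ext (Prod.ext h.ta h'.ta),
        hemi := Subtype.ext (Prod.ext h.hemi h'.hemi),
        bcdt := Subtype.ext (Prod.ext h.bcdt h'.bcdt) }
  have hMgen : Subgroup.closure ({A, B, C, D, T} : Set M) = ⊤ := by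
    rw [eq_top_iff, ← Subgroup.closure_closure_coe_preimage (k := S)]
    refine Subgroup.closure_mono ?_
    rintro ⟨x, hx⟩ hxm
    simp only [S, Set.mem_preimage, Set.mem_insert_iff, Set.mem_singleton_iff] at hxm
    rcases hxm with rfl | rfl | rfl | rfl | rfl <;> simp [A, B, C, D, T]
  have hcard : Nat.card M ≤ 175560 := le_trans (hM.card_le hMgen) (by norm_num)
  let f : M →* G := (MonoidHom.fst G H).comp M.subtype
  let f' : M →* H := (MonoidHom.snd G H).comp M.subtype
  exact ⟨(MulEquiv.ofBijective f (bijective_of_gens (A := A) (B := B) (C := C) (D := D) (T := T) hcard f hG hgen)).symm.trans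
    (MulEquiv.ofBijective f' (bijective_of_gens (A := A) (B := B) (C := C) (D := D) (T := T) hcard f' hH hgen'))⟩

end Cfsg.Agent.J1Unique
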