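import Cfsg.Agent.Lib.J1Unique.Alt
import Cfsg.Agent.Lib.Transfer.Thompson

/-!
# Local lemmas in a group with involution centralisers `2 × A₅`

`Inner u v`: `v` lies in the derived subgroup of `C(u)`. For commuting involutions exactly one of
`Inner u v`, `Inner v u` holds (`Setup.inner_iff_not`).
-/

set_option autoImplicit false
set_option linter.unusedSectionVars false

namespace Cfsg.Agent.J1Unique

open Subgroup
open scoped commutatorElement

variable {G : Type*} [Group G]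

/-- An involution. -/
def Inv2 (u : G) : Prop := u * u = 1 ∧ u ≠ 1

theorem Inv2.conj {u : G} (hu : Inv2 u) (g : G) : Inv2 (g * u * g⁻¹) := by
  refine ⟨?_, fun e => hu.2 ?_⟩
  · calc g * u * g⁻¹ * (g * u * g⁻¹) = g * (u * u) * g⁻¹ := by group
      _ = 1 := by rw [hu.1]; group
  · calc u = g⁻¹ * (g * u * g⁻¹) * g := by group
      _ = 1 := by rw [e]; group

theorem Inv2.orderOf {u : G} (hu : Inv2 u) : orderOf u = 2 :=
  orderOf_eq_prime (by rw [pow_two]; exact hu.1) hu.2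

/-- `v` is in the derived subgroup of `C(u)`. -/
def Inner (u v : G) : Prop :=
  v ∈ (⁅centralizer ({u} : Set G), centralizer ({u} : Set G)⁆ : Subgroup G)

theorem map_centralizer_conj (g u : G) :
    (centralizer ({u} : Set G)).map (MulAut.conj g).toMonoidHom =
      centralizer ({g * u * g⁻¹} : Set G) := by
  ext x
  simp only [mem_map, mem_centralizer_singleton_iff, MulEquiv.coe_toMonoidHom, MulAut.conj_apply]
  constructor
  · rintro ⟨y, hy, rfl⟩
    calc g * y * g⁻¹ * (g * u * g⁻¹) = g * (y * u) * g⁻¹ := by group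
      _ = g * (u * y) * g⁻¹ := by rw [hy]
      _ = g * u * g⁻¹ * (g * y * g⁻¹) := by group
  · intro h
    refine ⟨g⁻¹ * x * g, ?_, by group⟩
    calc g⁻¹ * x * g * u = g⁻¹ * (x * (g * u * g⁻¹)) * g := by group
      _ = g⁻¹ * (g * u * g⁻¹ * x) * g := by rw [h]
      _ = u * (g⁻¹ * x * g) := by group

theorem Inner.conj {u v : G} (h : Inner u v) (g : G) : Inner (g * u * g⁻¹) (g * v * g⁻¹) := by
  unfold Inner at h ⊢
  rw [← map_centralizer_conj, ← map_commutator]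
  exact ⟨v, h, rfl⟩

theorem inner_conj_iff (g u v : G) : Inner (g * u * g⁻¹) (g * v * g⁻¹) ↔ Inner u v := by
  refine ⟨fun h => ?_, fun h => h.conj g⟩
  have := h.conj g⁻¹
  rwa [show g⁻¹ * (g * u * g⁻¹) * g⁻¹⁻¹ = u by group,
    show g⁻¹ * (g * v * g⁻¹) * g⁻¹⁻¹ = v by group] at this

/-- A chosen identification of the centraliser of `u` with `2 × A₅`, extended by `1`. -/
structure Chart (u : G) where
  iso : centralizer ({u} : Set G) ≃* P5
  hu : Inv2 u

namespace Chart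

variable {u : G} (χ : Chart u)
include χ

open Classical in
/-- Image of an element of the centraliser. -/
noncomputable def img (v : G) : P5 :=
  if h : v ∈ centralizer ({u} : Set G) then χ.iso ⟨v, h⟩ else 1

theorem img_mul {v w : G} (hv : Commute v u) (hw : Commute w u) :
    χ.img (v * w) = χ.img v * χ.img w := by
  have hv' : v ∈ centralizer ({u} : Set G) := mem_centralizer_singleton_iff.2 hv
  have hw' : w ∈ centralizer ({u} : Set G) := mem_centralizer_singleton_iff.2 hw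
  unfold img
  rw [dif_pos hv', dif_pos hw', dif_pos (mul_mem hv' hw'), ← map_mul]
  rfl

theorem img_one : χ.img 1 = 1 := by
  unfold img
  rw [dif_pos (one_mem _)]
  exact map_one _

theorem img_inv {v : G} (hv : Commute v u) : χ.img v⁻¹ = (χ.img v)⁻¹ := by
  rw [eq_inv_iff_mul_eq_one, ← χ.img_mul hv.inv_left hv, inv_mul_cancel, img_one]

theorem img_pow {v : G} (hv : Commute v u) : ∀ n : ℕ, χ.img (v ^ n) = χ.img v ^ n
  | 0 => by rw [pow_zero, pow_zero, img_one]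
  | n + 1 => by rw [pow_succ, pow_succ, χ.img_mul (hv.pow_left n) hv, img_pow hv n]

theorem img_inj {v w : G} (hv : Commute v u) (hw : Commute w u) (h : χ.img v = χ.img w) : v = w := by
  have hv' : v ∈ centralizer ({u} : Set G) := mem_centralizer_singleton_iff.2 hv
  have hw' : w ∈ centralizer ({u} : Set G) := mem_centralizer_singleton_iff.2 hw
  unfold img at h
  rw [dif_pos hv', dif_pos hw'] at h
  exact congrArg Subtype.val (χ.iso.injective h)

theorem exists_img (p : P5) : ∃ v, Commute v u ∧ χ.img v = p := by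
  refine ⟨χ.iso.symm p, mem_centralizer_singleton_iff.1 (χ.iso.symm p).2, ?_⟩
  unfold img
  rw [dif_pos (χ.iso.symm p).2]
  simp

theorem img_eq_one_iff {v : G} (hv : Commute v u) : χ.img v = 1 ↔ v = 1 :=
  ⟨fun h => χ.img_inj hv (Commute.one_left u) (h.trans χ.img_one.symm), fun h => h ▸ χ.img_one⟩

theorem img_self : χ.img u = zP := by
  refine central_eq_zP ?_ ?_ ?_
  · rw [← χ.img_mul (Commute.refl u) (Commute.refl u), χ.hu.1, img_one]
  · exact fun h => χ.hu.2 ((χ.img_eq_one_iff (Commute.refl u)).1 h)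
  · intro q
    obtain ⟨v, hv, rfl⟩ := χ.exists_img q
    rw [← χ.img_mul (Commute.refl u) hv, ← χ.img_mul hv (Commute.refl u), hv.eq]

theorem img_sq {v : G} (hv : Commute v u) (h : v * v = 1) : (χ.img v).2 * (χ.img v).2 = 1 := by
  rw [← Prod.snd_mul, ← χ.img_mul hv hv, h, img_one]
  rfl

theorem snd_ne {v : G} (hv : Commute v u) (hv1 : v ≠ 1) (hvu : v ≠ u) : (χ.img v).2 ≠ 1 :=
  P5_snd_ne (fun h => hv1 ((χ.img_eq_one_iff hv).1 h))
    (fun h => hvu (χ.img_inj hv (Commute.refl u) (h.trans χ.img_self.symm)))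

theorem inner_iff {v : G} (hv : Commute v u) : Inner u v ↔ (χ.img v).1 = 1 := by
  have hv' : v ∈ centralizer ({u} : Set G) := mem_centralizer_singleton_iff.2 hv
  have h1 : Inner u v ↔ (⟨v, hv'⟩ : centralizer ({u} : Set G)) ∈ commutator _ := by
    unfold Inner
    rw [← map_subtype_commutator]
    constructor
    · rintro ⟨y, hy, rfl⟩
      exact hy
    · intro h
      exact ⟨_, h, rfl⟩
  rw [h1, ← mem_commutator_P5]
  unfold img
  rw [dif_pos hv']
  have hmap : (commutator (centralizer ({u} : Set G))).map χ.iso.toMonoidHom = commutator P5 := by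
    rw [commutator_def, map_commutator, map_top_of_surjective _ χ.iso.surjective, ← commutator_def]
  rw [← hmap]
  exact ⟨fun h => ⟨_, h, rfl⟩, fun ⟨y, hy, e⟩ => χ.iso.injective e ▸ hy⟩

theorem inner_mul {v w : G} (hv : Commute v u) (hw : Commute w u) :
    Inner u (v * w) ↔ (Inner u v ↔ Inner u w) := by
  rw [χ.inner_iff (hv.mul_left hw), χ.inner_iff hv, χ.inner_iff hw, χ.img_mul hv hw, Prod.fst_mul]
  exact fst_mul _ _

theorem not_inner_self : ¬ Inner u u := by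
  rw [χ.inner_iff (Commute.refl u), χ.img_self]
  decide

theorem inner_of_odd {v : G} (hv : Commute v u) {n : ℕ} (hn : Odd n) (h : v ^ n = 1) : Inner u v :=
  (χ.inner_iff hv).2 (P5_odd_fst hn (by rw [← χ.img_pow hv, h, img_one]))

theorem inner_pow {v : G} (hv : Commute v u) {n : ℕ} (hn : Odd n) :
    Inner u (v ^ n) ↔ Inner u v := by
  obtain ⟨k, rfl⟩ := hn
  rw [χ.inner_iff (hv.pow_left _), χ.inner_iff hv, χ.img_pow hv, Prod.pow_fst, pow_succ, pow_mul,
    pow_two, fst_sq, one_pow, one_mul]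

end Chart

/-- The standing hypotheses. -/
structure Setup (G : Type*) [Group G] : Prop where
  card : Nat.card G = 175560
  chart : ∀ u : G, Inv2 u → Nonempty (Chart u)
  isConj : ∀ u v : G, Inv2 u → Inv2 v → IsConj u v

theorem sylow_two_card [Finite G] (hG : Nat.card G = 175560) (P : Sylow 2 G) :
    Nat.card (P : Subgroup G) = 8 := by
  rw [Sylow.card_eq_multiplicity, hG,
    show Nat.factorization 175560 2 = 3 from ?_]
  · norm_num
  · have h : (175560 : ℕ) = 2 ^ 3 * 21945 := by norm_num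
    rw [h, Nat.factorization_mul (by norm_num) (by norm_num), Nat.Prime.factorization_pow Nat.prime_two]
    simp [Nat.factorization_eq_zero_of_not_dvd (show ¬ 2 ∣ 21945 by norm_num)]

variable [Finite G]

/-- The common centraliser of two commuting involutions. -/
abbrev E2 (u v : G) : Subgroup G := centralizer ({u} : Set G) ⊓ centralizer ({v} : Set G)

theorem mem_E2 {u v g : G} : g ∈ E2 u v ↔ Commute g u ∧ Commute g v := by
  simp only [E2, mem_inf, mem_centralizer_singleton_iff]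
  rfl

namespace Chart

variable {u : G} (χ : Chart u)
include χ

theorem klein {v w g : G} (hv : Commute v u) (hv2 : Inv2 v) (hvu : v ≠ u) (hw : Commute w u)
    (hw2 : w * w = 1) (hvw : Commute v w) (hg : Commute g u) (hgv : Commute g v) : Commute g w := by
  have key : (χ.img g).2 * (χ.img w).2 = (χ.img w).2 * (χ.img g).2 := by
    by_cases hw1 : (χ.img w).2 = 1
    · rw [hw1, mul_one, one_mul]
    · refine alt_klein _ (χ.img_sq hv hv2.1) (χ.snd_ne hv hv2.2 hvu) _ (χ.img_sq hw hw2) hw1 ?_ _ ?_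
      · rw [← Prod.snd_mul, ← Prod.snd_mul, ← χ.img_mul hv hw, ← χ.img_mul hw hv, hvw.eq]
      · rw [← Prod.snd_mul, ← Prod.snd_mul, ← χ.img_mul hg hv, ← χ.img_mul hv hg, hgv.eq]
  show g * w = w * g
  refine χ.img_inj (hg.mul_left hw) (hw.mul_left hg) ?_
  rw [χ.img_mul hg hw, χ.img_mul hw hg]
  exact Prod.ext (mul_comm _ _) key

theorem conj_inner {v w : G} (hv : Commute v u) (hv2 : Inv2 v) (hvu : v ≠ u) (hw : Commute w u)
    (hw2 : Inv2 w) (hwu : w ≠ u) (h : Inner u v ↔ Inner u w) :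
    ∃ g, Commute g u ∧ g * v * g⁻¹ = w := by
  obtain ⟨p, hp⟩ := P5_conj (χ.img_sq hv hv2.1) (χ.snd_ne hv hv2.2 hvu) (χ.img_sq hw hw2.1)
    (χ.snd_ne hw hw2.2 hwu) (by rw [← χ.inner_iff hv, ← χ.inner_iff hw, h])
  obtain ⟨g, hg, rfl⟩ := χ.exists_img p
  refine ⟨g, hg, χ.img_inj ((hg.mul_left hv).mul_left hg.inv_left) hw ?_⟩
  rw [χ.img_mul (hg.mul_left hv) hg.inv_left, χ.img_mul hg hv, χ.img_inv hg, hp]

theorem sq_of_mem {v g : G} (hv : Commute v u) (hv2 : Inv2 v) (hvu : v ≠ u) (hgu : Commute g u)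
    (hgv : Commute g v) : g * g = 1 := by
  refine χ.img_inj (hgu.mul_left hgu) (Commute.one_left u) ?_
  rw [χ.img_mul hgu hgu, χ.img_one, P5_sq]
  refine alt_sq_of_comm _ (χ.img_sq hv hv2.1) (χ.snd_ne hv hv2.2 hvu) _ ?_
  rw [← Prod.snd_mul, ← Prod.snd_mul, ← χ.img_mul hgu hv, ← χ.img_mul hv hgu, hgv.eq]

theorem card_E2 {v : G} (hv : Commute v u) (hv2 : Inv2 v) (hvu : v ≠ u) :
    Nat.card (E2 u v) = 8 := by
  rw [← P5_card_cent (χ.img_sq hv hv2.1) (χ.snd_ne hv hv2.2 hvu)]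
  refine Nat.card_congr (Equiv.ofBijective (fun g => ⟨χ.img g.1, ?_⟩) ⟨?_, ?_⟩)
  · obtain ⟨hgu, hgv⟩ := mem_E2.1 g.2
    rw [← Prod.snd_mul, ← Prod.snd_mul, ← χ.img_mul hgu hv, ← χ.img_mul hv hgu, hgv.eq]
  · intro g h e
    exact Subtype.ext (χ.img_inj (mem_E2.1 g.2).1 (mem_E2.1 h.2).1 (congrArg Subtype.val e))
  · rintro ⟨p, hp⟩
    obtain ⟨g, hg, rfl⟩ := χ.exists_img p
    refine ⟨⟨g, mem_E2.2 ⟨hg, χ.img_inj (hg.mul_left hv) (hv.mul_left hg) ?_⟩⟩, rfl⟩
    rw [χ.img_mul hg hv, χ.img_mul hv hg]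
    exact Prod.ext (mul_comm _ _) hp

theorem exists_sylow {v : G} (hG : Nat.card G = 175560) (hv : Commute v u) (hv2 : Inv2 v)
    (hvu : v ≠ u) :
    ∃ S : Sylow 2 G, (S : Subgroup G) = E2 u v ∧ IsMulCommutative (S : Subgroup G) := by
  have := Fact.mk Nat.prime_two
  have hE : IsPGroup 2 (E2 u v) := IsPGroup.of_card (n := 3) (χ.card_E2 hv hv2 hvu)
  obtain ⟨S, hS⟩ := hE.exists_le_sylow
  have hSE : (S : Subgroup G) = E2 u v :=
    (Subgroup.eq_of_le_of_card_ge hS (by rw [sylow_two_card hG, χ.card_E2 hv hv2 hvu])).symm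
  refine ⟨S, hSE, ⟨⟨fun g h => Subtype.ext ?_⟩⟩⟩
  obtain ⟨hgu, hgv⟩ := mem_E2.1 (hSE.le g.2)
  obtain ⟨hhu, hhv⟩ := mem_E2.1 (hSE.le h.2)
  exact (χ.klein hv hv2 hvu hhu (χ.sq_of_mem hv hv2 hvu hhu hhv) hhv.symm hgu hgv).eq

end Chart

/-- Odd powers of an exchange exchange. -/
theorem pow_swap {n u v : G} (h1 : n * u * n⁻¹ = v) (h2 : n * v * n⁻¹ = u) :
    ∀ k : ℕ, n ^ (2 * k + 1) * u * (n ^ (2 * k + 1))⁻¹ = v
  | 0 => by simpa using h1
  | k + 1 => by
    have := pow_swap h1 h2 k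
    rw [show 2 * (k + 1) + 1 = 1 + 1 + (2 * k + 1) by ring, pow_add, pow_add, pow_one]
    calc n * n * n ^ (2 * k + 1) * u * (n * n * n ^ (2 * k + 1))⁻¹
        = n * (n * (n ^ (2 * k + 1) * u * (n ^ (2 * k + 1))⁻¹) * n⁻¹) * n⁻¹ := by group
      _ = v := by rw [this, h2, h1]

theorem conj_mem_E2 {n u v u' v' g : G} (h1 : n * u * n⁻¹ = u') (h2 : n * v * n⁻¹ = v')
    (hg : g ∈ E2 u v) : n * g * n⁻¹ ∈ E2 u' v' := by
  obtain ⟨hu, hv⟩ := mem_E2.1 hg
  subst h1 h2
  refine mem_E2.2 ⟨?_, ?_⟩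
  · exact hu.map (MulAut.conj n).toMonoidHom
  · exact hv.map (MulAut.conj n).toMonoidHom

theorem E2_eq_of {u v w : G} (χ : Chart u) (hv : Commute v u) (hv2 : Inv2 v) (hvu : v ≠ u)
    (hw : Commute w u) (hw2 : Inv2 w) (hwu : w ≠ u) (hvw : Commute v w) : E2 u v = E2 u w := by
  ext g
  simp only [mem_E2]
  exact ⟨fun ⟨hg, hgv⟩ => ⟨hg, χ.klein hv hv2 hvu hw hw2.1 hvw hg hgv⟩,
    fun ⟨hg, hgw⟩ => ⟨hg, χ.klein hw hw2 hwu hv hv2.1 hvw.symm hg hgw⟩⟩

theorem Setup.inner_iff_not (hS : Setup G) {u v : G} (hu : Inv2 u) (hv : Inv2 v)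
    (huv : Commute u v) (hne : u ≠ v) : Inner u v ↔ ¬ Inner v u := by
  have := Fact.mk Nat.prime_two
  obtain ⟨χu⟩ := hS.chart u hu
  obtain ⟨χv⟩ := hS.chart v hv
  by_contra hcon
  have hsym : Inner u v ↔ Inner v u := by tauto
  obtain ⟨S, hSE, hScomm⟩ := χu.exists_sylow hS.card huv.symm hv hne.symm
  have huS : u ∈ (S : Subgroup G) := hSE.symm.le (mem_E2.2 ⟨Commute.refl u, huv⟩)
  have hvS : v ∈ (S : Subgroup G) := hSE.symm.le (mem_E2.2 ⟨huv.symm, Commute.refl v⟩)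
  obtain ⟨g₀, hg₀⟩ := isConj_iff.1 (hS.isConj u v hu hv)
  obtain ⟨n, hn, hnu⟩ := Sylow.conj_eq_normalizer_conj_of_mem S u g₀⁻¹ huS
    (by rw [inv_inv, hg₀]; exact hvS)
  rw [inv_inv, hg₀] at hnu
  have hmap : n⁻¹ * u * n⁻¹⁻¹ = v := by rw [inv_inv]; exact hnu.symm
  -- the image of `v`
  set v' := n⁻¹ * v * n⁻¹⁻¹ with hv'
  have hv'S : v' ∈ (S : Subgroup G) := by
    have := (Subgroup.mem_normalizer_iff.1 (inv_mem hn) v).1 hvS
    exact this
  obtain ⟨hv'u, hv'v⟩ := mem_E2.1 (hSE.le hv'S)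
  have hv'2 : Inv2 v' := hv.conj n⁻¹
  have hv'ne : v' ≠ v := by
    intro e
    refine hne ?_
    have : n⁻¹ * v * n⁻¹⁻¹ = n⁻¹ * u * n⁻¹⁻¹ := e.trans hmap.symm
    exact (mul_left_cancel (mul_right_cancel this)).symm
  have hsign : Inner v v' ↔ Inner v u := by
    rw [← hsym]
    have := inner_conj_iff n⁻¹ u v
    rw [hmap] at this
    exact this
  obtain ⟨g, hgv, hg⟩ := χv.conj_inner hv'v hv'2 hv'ne huv hu hne hsign
  set m := g * n⁻¹ with hm
  have hm1 : m * u * m⁻¹ = v := by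
    calc m * u * m⁻¹ = g * (n⁻¹ * u * n⁻¹⁻¹) * g⁻¹ := by rw [hm]; group
      _ = v := by rw [hmap, hgv.eq, mul_inv_cancel_right]
  have hm2 : m * v * m⁻¹ = u := by
    calc m * v * m⁻¹ = g * (n⁻¹ * v * n⁻¹⁻¹) * g⁻¹ := by rw [hm]; group
      _ = u := by rw [← hv', hg]
  obtain ⟨k, j, hj, hord⟩ : ∃ k j : ℕ, Odd j ∧ orderOf m = 2 ^ k * j := by
    obtain ⟨k, j, hj, he⟩ := Nat.exists_eq_two_pow_mul_odd (orderOf_pos m).ne'
    exact ⟨k, j, hj, he⟩
  obtain ⟨i, rfl⟩ := hj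
  have hsw1 := pow_swap hm1 hm2 i
  have hsw2 := pow_swap hm2 hm1 i
  set q := m ^ (2 * i + 1)
  have hq : IsPGroup 2 (zpowers q) := by
    intro x
    refine ⟨k, ?_⟩
    obtain ⟨z, hz⟩ := mem_zpowers_iff.1 x.2
    apply Subtype.ext
    rw [coe_pow, coe_one, ← hz, ← zpow_natCast, ← zpow_mul, mul_comm, zpow_mul, zpow_natCast]
    have : q ^ 2 ^ k = 1 := by
      rw [← pow_mul, mul_comm, ← hord, pow_orderOf_eq_one]
    rw [this, one_zpow]
  have hqN : q ∈ normalizer ((S : Subgroup G) : Set G) := by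
    refine mem_normalizer_fintype fun x hx => ?_
    refine hSE.symm.le ?_
    have := conj_mem_E2 hsw1 hsw2 (hSE.le hx)
    rw [E2, inf_comm] at this
    exact this
  have hsup : IsPGroup 2 ((S : Subgroup G) ⊔ zpowers q : Subgroup G) :=
    S.isPGroup'.to_sup_of_normal_left' hq (zpowers_le.2 hqN)
  have hqS : q ∈ (S : Subgroup G) :=
    (S.is_maximal' hsup le_sup_left).le (le_sup_right (a := (S : Subgroup G)) (mem_zpowers q))
  have hcu : Commute q u := (mem_E2.1 (hSE.le hqS)).1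
  exact hne (by rw [← hsw1, hcu.eq, mul_inv_cancel_right])

end Cfsg.Agent.J1Unique
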