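import Cfsg.Agent.Lib.J1Unique.Five

/-!
# A uniform sign for reflections of five-cycles

`Pivot t x c`: `x` has order five in `C(t)`, the involution `c` of `C(t)` inverts it and centralises
the element of order three centralising `x`. All pivots have the same sign `Inner t c`.
-/

set_option autoImplicit false
set_option linter.unusedSectionVars false

namespace Cfsg.Agent.J1Unique

open Subgroup

variable {G : Type*} [Group G] [Finite G]

/-- A reflection centralising the order-three part of the centraliser of a five-element. -/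
structure Pivot (t x c : G) : Prop where
  ht : Inv2 t
  hx : orderOf x = 5
  htx : Commute x t
  hc : Inv2 c
  hct : Commute c t
  hcx : c * x * c⁻¹ = x⁻¹
  three : ∃ y, orderOf y = 3 ∧ Commute y x ∧ Commute c y

theorem Inv2.inv_eq {u : G} (hu : Inv2 u) : u⁻¹ = u := inv_eq_of_mul_eq_one_right hu.1

theorem Inv2.mul {u v : G} (hu : Inv2 u) (hv : Inv2 v) (h : Commute u v) (hne : u ≠ v) :
    Inv2 (u * v) := by
  refine ⟨?_, fun e => hne ?_⟩
  · calc u * v * (u * v) = u * (v * u) * v := by group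
      _ = u * u * (v * v) := by rw [← h.eq]; group
      _ = 1 := by rw [hu.1, hv.1, one_mul]
  · rw [mul_eq_one_iff_eq_inv, hv.inv_eq] at e
    exact e

theorem not_self_inv_of_orderOf {x : G} {q : ℕ} (hx : orderOf x = q) (hq : 2 < q) : x ≠ x⁻¹ := by
  intro e
  have h : x ^ 2 = 1 := by rw [pow_two]; nth_rewrite 1 [e]; exact inv_mul_cancel x
  have := Nat.le_of_dvd (by norm_num) (orderOf_dvd_of_pow_eq_one h)
  omega

theorem eq_zpowers_of_orderOf {y z : G} (h : z ∈ zpowers y) (he : orderOf z = orderOf y) :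
    zpowers z = zpowers y :=
  Subgroup.eq_of_le_of_card_ge (zpowers_le.2 h) (by rw [Nat.card_zpowers, Nat.card_zpowers, he])

theorem commute_of_mem_zpowers {w y z : G} (h : Commute w y) (hz : z ∈ zpowers y) : Commute w z := by
  obtain ⟨k, rfl⟩ := mem_zpowers_iff.1 hz
  exact h.zpow_right k

namespace Setup

variable (hS : Setup G)
include hS
variable [IsSimpleGroup G]

theorem pivot_or {t x c : G} (ht : Inv2 t) (hx : orderOf x = 5) (htx : Commute x t) (hc : Inv2 c)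
    (hct : Commute c t) (hcx : c * x * c⁻¹ = x⁻¹) : Pivot t x c ∨ Pivot t x (c * t) := by
  obtain ⟨-, y, hy, hyx, hty, hcy | hcy, -⟩ := hS.five_data ht hx htx hc hct hcx
  · exact .inl ⟨ht, hx, htx, hc, hct, hcx, y, hy, hyx, mul_inv_eq_iff_eq_mul.1 hcy⟩
  · have hne : c ≠ t := by
      intro e
      rw [e, ← htx.eq, mul_inv_cancel_right] at hcx
      exact not_self_inv_of_orderOf hx (by norm_num) hcx
    refine .inr ⟨ht, hx, htx, hc.mul ht hct hne, hct.mul_left (Commute.refl t), ?_, y, hy, hyx, ?_⟩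
    · calc c * t * x * (c * t)⁻¹ = c * (t * x * t⁻¹) * c⁻¹ := by group
        _ = x⁻¹ := by rw [← htx.eq, mul_inv_cancel_right, hcx]
    · refine mul_inv_eq_iff_eq_mul.1 ?_
      calc c * t * y * (c * t)⁻¹ = c * (t * y * t⁻¹) * c⁻¹ := by group
        _ = (c * y * c⁻¹)⁻¹ := by rw [hty]; group
        _ = y := by rw [hcy, inv_inv]

theorem pivot_sign {t x c t' x' c' : G} (h : Pivot t x c) (h' : Pivot t' x' c') :
    Inner t c ↔ Inner t' c' := by
  obtain ⟨g₀, hg₀⟩ := isConj_iff.1 (hS.isConj t t' h.ht h'.ht)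
  obtain ⟨χ⟩ := hS.chart t' h'.ht
  set x₀ := g₀ * x * g₀⁻¹ with hx₀
  have hx₀t : Commute x₀ t' := by rw [← hg₀]; exact h.htx.map (MulAut.conj g₀).toMonoidHom
  have hx₀5 : x₀ ^ 5 = 1 := by rw [hx₀, conj_pow, ← h.hx, pow_orderOf_eq_one, mul_one, mul_inv_cancel]
  have hx'5 : x' ^ 5 = 1 := h'.hx ▸ pow_orderOf_eq_one x'
  have hsnd : ∀ z : G, Commute z t' → z ^ 5 = 1 → z ≠ 1 →
      (χ.img z).1 = 1 ∧ (χ.img z).2 ^ 5 = 1 ∧ (χ.img z).2 ≠ 1 := by
    intro z hz hz5 hz1
    have h1 := P5_odd_fst (by decide : Odd 5) (χ.img_pow_eq_one hz hz5)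
    refine ⟨h1, ?_, fun e => hz1 ((χ.img_eq_one_iff hz).1 (Prod.ext h1 e))⟩
    rw [← Prod.pow_snd, χ.img_pow_eq_one hz hz5]; rfl
  have hx'1 : x' ≠ 1 := fun e => by have := h'.hx; rw [e, orderOf_one] at this; norm_num at this
  have hx₀1 : x₀ ≠ 1 := fun e => by
    have := h.hx
    rw [conj_eq_one_iff.1 e, orderOf_one] at this
    norm_num at this
  obtain ⟨a1, a5, an⟩ := hsnd x₀ hx₀t hx₀5 hx₀1
  obtain ⟨b1, b5, bn⟩ := hsnd x' h'.htx hx'5 hx'1
  obtain ⟨g, k, hk, hgk⟩ := alt_five_conj _ a5 an _ b5 bn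
  obtain ⟨u, hu, hui⟩ := χ.exists_img (1, g)
  have hconj : u * x₀ * u⁻¹ = x' ^ (k : ℕ) := by
    refine χ.img_inj ((hu.mul_left hx₀t).mul_left hu.inv_left) (h'.htx.pow_left _) ?_
    rw [χ.img_mul (hu.mul_left hx₀t) hu.inv_left, χ.img_mul hu hx₀t, χ.img_inv hu, χ.img_pow h'.htx,
      hui]
    refine Prod.ext ?_ ?_
    · simp [a1, b1]
    · simpa using hgk
  set n := u * g₀ with hn
  have hnt : n * t * n⁻¹ = t' := by
    calc n * t * n⁻¹ = u * (g₀ * t * g₀⁻¹) * u⁻¹ := by rw [hn]; group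
      _ = t' := by rw [hg₀, hu.eq, mul_inv_cancel_right]
  have hnx : n * x * n⁻¹ = x' ^ (k : ℕ) := by
    calc n * x * n⁻¹ = u * x₀ * u⁻¹ := by rw [hn, hx₀]; group
      _ = _ := hconj
  set c'' := n * c * n⁻¹ with hc''
  have hc''t : Commute c'' t' := by rw [← hnt]; exact h.hct.map (MulAut.conj n).toMonoidHom
  have hc''2 : Inv2 c'' := h.hc.conj n
  obtain ⟨j, hj⟩ : ∃ j : ℕ, (x' ^ (k : ℕ)) ^ j = x' := by
    refine exists_pow_eq_self_of_coprime ?_
    rw [h'.hx]
    have := k.2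
    interval_cases h : (k : ℕ) <;> first | exact (hk h).elim | exact (hk rfl).elim | decide
  have hc''x : c'' * x' * c''⁻¹ = x'⁻¹ := by
    have e1 : c'' * x' ^ (k : ℕ) * c''⁻¹ = (x' ^ (k : ℕ))⁻¹ := by
      rw [← hnx, hc'']
      calc n * c * n⁻¹ * (n * x * n⁻¹) * (n * c * n⁻¹)⁻¹ = n * (c * x * c⁻¹) * n⁻¹ := by group
        _ = _ := by rw [h.hcx, conj_inv]
    calc c'' * x' * c''⁻¹ = c'' * (x' ^ (k : ℕ)) ^ j * c''⁻¹ := by rw [hj]
      _ = ((x' ^ (k : ℕ))⁻¹) ^ j := by rw [← conj_pow, e1]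
      _ = x'⁻¹ := by rw [inv_pow, hj]
  obtain ⟨y, hy, hyx, hcy⟩ := h.three
  obtain ⟨z, hz, hzx, hcz⟩ := h'.three
  obtain ⟨-, w, hw, hwx, htw, -, huniq⟩ := hS.five_data h'.ht h'.hx h'.htx h'.hc h'.hct h'.hcx
  set y'' := n * y * n⁻¹ with hy''
  have hy''o : orderOf y'' = 3 :=
    (orderOf_injective (MulAut.conj n).toMonoidHom (MulAut.conj n).injective y).trans hy
  have hy''x : Commute y'' x' := by
    have e : Commute y'' (x' ^ (k : ℕ)) := by rw [← hnx]; exact hyx.map (MulAut.conj n).toMonoidHom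
    rw [← hj]
    exact e.pow_right j
  have hc''w : Commute c'' w :=
    commute_of_mem_zpowers (hcy.map (MulAut.conj n).toMonoidHom)
      ((eq_zpowers_of_orderOf (huniq _ hy''o hy''x) (hy''o.trans hw.symm)).ge (mem_zpowers w))
  have hc'w : Commute c' w :=
    commute_of_mem_zpowers hcz
      ((eq_zpowers_of_orderOf (huniq z hz hzx) (hz.trans hw.symm)).ge (mem_zpowers w))
  have hkey : Inner t' c'' ↔ Inner t' c' := by
    by_contra hne
    set v := c'' * c'
    have hvt : Commute v t' := hc''t.mul_left h'.hct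
    have hv : ¬ Inner t' v := by rw [χ.inner_mul hc''t h'.hct]; exact hne
    have hvx : Commute v x' := by
      refine mul_inv_eq_iff_eq_mul.1 ?_
      calc v * x' * v⁻¹ = c'' * (c' * x' * c'⁻¹) * c''⁻¹ := by simp only [v]; group
        _ = (c'' * x' * c''⁻¹)⁻¹ := by rw [h'.hcx]; group
        _ = x' := by rw [hc''x, inv_inv]
    have h5 := alt_cent_five _ b5 bn (χ.img v).2
      (by rw [← Prod.snd_mul, ← Prod.snd_mul, ← χ.img_mul hvt h'.htx, ← χ.img_mul h'.htx hvt, hvx.eq])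
    have hv5 : v ^ 5 = t' := by
      refine χ.img_inj (hvt.pow_left 5) (Commute.refl t') ?_
      rw [χ.img_pow hvt, χ.img_self]
      refine Prod.ext ?_ h5
      rw [χ.inner_iff hvt] at hv
      rcases fst_cases (χ.img v).1 with e | e
      · exact absurd e hv
      · rw [Prod.pow_fst, e]; decide
    have : Commute t' w := hv5 ▸ (hc''w.mul_left hc'w).pow_left 5
    rw [this.eq, mul_inv_cancel_right] at htw
    exact not_self_inv_of_orderOf hw (by norm_num) htw
  rw [← hkey, hc'', ← hnt]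
  exact (inner_conj_iff n t c).symm

theorem exists_pivot {t : G} (ht : Inv2 t) : ∃ x c, Pivot t x c := by
  obtain ⟨χ⟩ := hS.chart t ht
  obtain ⟨σ, hσ5, hσ1⟩ : ∃ σ : A5, σ ^ 5 = 1 ∧ σ ≠ 1 :=
    ⟨⟨finRotate 5, Equiv.Perm.mem_alternatingGroup.mpr (by decide)⟩, by decide +kernel, by decide⟩
  obtain ⟨γ, hγ2, hγ1, hγ⟩ := alt_five_inverted σ hσ5 hσ1
  obtain ⟨x, hx, hxi⟩ := χ.exists_img (1, σ)
  obtain ⟨c, hc, hci⟩ := χ.exists_img (1, γ)
  have := Fact.mk Nat.prime_five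
  have hxo : orderOf x = 5 := orderOf_eq_prime
    (χ.img_inj (hx.pow_left 5) (Commute.one_left t)
      (by rw [χ.img_pow hx, hxi, χ.img_one]; exact Prod.ext (one_pow _) hσ5))
    (fun e => hσ1 (by rw [e, χ.img_one] at hxi; exact (congrArg Prod.snd hxi).symm))
  have hc2 : Inv2 c := by
    refine ⟨χ.img_inj (hc.mul_left hc) (Commute.one_left t) ?_, fun e => hγ1 ?_⟩
    · rw [χ.img_mul hc hc, hci, χ.img_one]; exact Prod.ext (one_mul _) hγ2
    · rw [e, χ.img_one] at hci; exact (congrArg Prod.snd hci).symm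
  have hcx : c * x * c⁻¹ = x⁻¹ := by
    refine χ.img_inj ((hc.mul_left hx).mul_left hc.inv_left) hx.inv_left ?_
    rw [χ.img_mul (hc.mul_left hx) hc.inv_left, χ.img_mul hc hx, χ.img_inv hc, χ.img_inv hx, hxi, hci]
    exact Prod.ext (by simp) hγ
  rcases hS.pivot_or ht hxo hx hc2 hc hcx with h | h
  · exact ⟨x, c, h⟩
  · exact ⟨x, _, h⟩

theorem exists_sign : ∃ s : Prop, ∀ t x c : G, Pivot t x c → (Inner t c ↔ s) := by
  by_cases h : ∃ t x c : G, Pivot t x c
  · obtain ⟨t, x, c, h⟩ := h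
    exact ⟨Inner t c, fun t' x' c' h' => hS.pivot_sign h' h⟩
  · exact ⟨True, fun t x c h' => absurd ⟨t, x, c, h'⟩ h⟩

theorem pivot_of_sign {s : Prop} (hs : ∀ t x c : G, Pivot t x c → (Inner t c ↔ s)) {t x c : G}
    (ht : Inv2 t) (hx : orderOf x = 5) (htx : Commute x t) (hc : Inv2 c) (hct : Commute c t)
    (hcx : c * x * c⁻¹ = x⁻¹) (hsc : Inner t c ↔ s) : Pivot t x c := by
  rcases hS.pivot_or ht hx htx hc hct hcx with h | h
  · exact h
  · obtain ⟨χ⟩ := hS.chart t ht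
    have := hs _ _ _ h
    rw [χ.inner_mul hct (Commute.refl t)] at this
    have := χ.not_inner_self
    tauto

end Setup

end Cfsg.Agent.J1Unique
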