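import Cfsg.Agent.Lib.Presented.Derive
import Cfsg.Agent.Lib.Presented.Data.J1UGood
import Cfsg.Agent.Lib.Presented.Data.J1UBad
import Cfsg.Agent.Lib.Presented.Data.J1UH3
import Cfsg.Agent.Lib.Presented.Data.J1UC

/-!
# Five generators of the first Janko group

Consequences of checked coset enumerations: five involutions `a b c d t` satisfying `GoodRel` generate
a group of order at most `1463 * 120`; with the sign of `t` changed (`BadRel`) `a` lies in the subgroup
generated by the other four; and in a quotient of the Coxeter group of type `H₃` the element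
`(a b c) ^ 5` is central with square one.
-/

set_option autoImplicit false

namespace Cfsg.Agent.J1Unique

open Cfsg.Agent.Presented

variable {G : Type*} [Group G]

/-- The relations of type `H₃` on three involutions. -/
structure H3Rel (a b c : G) : Prop where
  aa : a * a = 1
  bb : b * b = 1
  cc : c * c = 1
  ac : (a * c) ^ 2 = 1
  ab : (a * b) ^ 5 = 1
  bc : (b * c) ^ 3 = 1

/-- The relations common to the two candidate configurations. -/
structure BaseRel (a b c d t : G) : Prop extends H3Rel a b c where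
  dd : d * d = 1
  tt : t * t = 1
  ad : (a * d) ^ 2 = 1
  bd : (b * d) ^ 2 = 1
  bt : (b * t) ^ 2 = 1
  ct : (c * t) ^ 2 = 1
  dt : (d * t) ^ 2 = 1
  cd : (c * d) ^ 5 = 1
  ta : (t * a) ^ 3 = 1
  hemi : (a * b * c) ^ 5 = 1

/-- The relations of the configuration that occurs. -/
structure GoodRel (a b c d t : G) : Prop extends BaseRel a b c d t where
  bcdt : (b * c * d) ^ 5 * t = 1

/-- The relations of the configuration that does not occur. -/
structure BadRel (a b c d t : G) : Prop extends BaseRel a b c d t where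
  bcd : (b * c * d) ^ 5 = 1

/-- Generators by number. -/
abbrev gens5 (a b c d t : G) : ℕ → G := fun n => [a, b, c, d, t].getD n 1

/-- Images of the nodes of a checked table, and what every edge says about them. -/
theorem exists_edges {D : CosetCert} (he : D.edgesOK = true) (hn : D.nodesOK = true) {s : ℕ → G}
    (H : Subgroup G) (hs : ∀ g, g < D.m → s g * s g = 1)
    (hR : ∀ w ∈ D.words.take D.nR, wval s w = 1) (hK : ∀ w ∈ D.words.drop D.nR, wval s w ∈ H) :
    ∃ φ : ℕ → G ⧸ H, φ 0 = QuotientGroup.mk 1 ∧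
      ∀ i g, i < D.N → g < D.m → s g • φ i = φ (D.actOf i g) := by
  obtain ⟨φ, h0, hφ⟩ := CosetCert.exists_cosets (s := s) hn H
  exact ⟨φ, h0, fun i g hi hg => CosetCert.edge_good he hn H hs hR hK h0 hφ _ i g hi hg D.rankOf_lt⟩

theorem index_le {D : CosetCert} (he : D.edgesOK = true) (hn : D.nodesOK = true) {s : ℕ → G}
    (H : Subgroup G) (hs : ∀ g, g < D.m → s g * s g = 1)
    (hR : ∀ w ∈ D.words.take D.nR, wval s w = 1) (hK : ∀ w ∈ D.words.drop D.nR, wval s w ∈ H)
    (hgen : Subgroup.closure (s '' {g | g < D.m}) = ⊤) : H.index ≤ D.N := by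
  obtain ⟨φ, h0, hφ⟩ := exists_edges he hn H hs hR hK
  have hN : 0 < D.N := by
    simp only [CosetCert.nodesOK, Bool.and_eq_true, Nat.blt_eq] at hn
    exact hn.1.2
  have hall : ∀ x : G, ∀ i, i < D.N → ∃ j, j < D.N ∧ x • φ i = φ j := by
    intro x
    have hx : x ∈ Subgroup.closure (s '' {g | g < D.m}) := hgen ▸ Subgroup.mem_top x
    induction hx using Subgroup.closure_induction'' with
    | mem y hy =>
      obtain ⟨g, hg, rfl⟩ := hy
      exact fun i hi => ⟨_, CosetCert.actOf_lt he hn hi hg, hφ i g hi hg⟩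
    | inv_mem y hy =>
      obtain ⟨g, hg, rfl⟩ := hy
      rw [inv_eq_of_mul_eq_one_right (hs g hg)]
      exact fun i hi => ⟨_, CosetCert.actOf_lt he hn hi hg, hφ i g hi hg⟩
    | one => exact fun i hi => ⟨i, hi, one_smul _ _⟩
    | mul p q _ _ hp hq =>
      intro i hi
      obtain ⟨j, hj, hqj⟩ := hq i hi
      obtain ⟨k, hk, hpk⟩ := hp j hj
      exact ⟨k, hk, by rw [mul_smul, hqj, hpk]⟩
  have hsurj : Function.Surjective fun i : Fin D.N => φ i.1 := by
    intro q
    induction q using QuotientGroup.induction_on with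
    | H x =>
      obtain ⟨j, hj, h⟩ := hall x 0 hN
      refine ⟨⟨j, hj⟩, ?_⟩
      show φ j = _
      rw [← h, h0, MulAction.Quotient.smul_mk, smul_eq_mul, mul_one]
  have := Nat.card_le_card_of_surjective _ hsurj
  rwa [Nat.card_fin] at this

theorem path_mem {D : CosetCert} (he : D.edgesOK = true) (hn : D.nodesOK = true) {s : ℕ → G}
    (H : Subgroup G) (hs : ∀ g, g < D.m → s g * s g = 1)
    (hR : ∀ w ∈ D.words.take D.nR, wval s w = 1) (hK : ∀ w ∈ D.words.drop D.nR, wval s w ∈ H)
    {w : List ℕ} (hw : ∀ g ∈ w, g < D.m) (h : D.path w 0 = 0) : wval s w ∈ H := by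
  obtain ⟨φ, h0, hφ⟩ := exists_edges he hn H hs hR hK
  have key : ∀ (w : List ℕ), (∀ g ∈ w, g < D.m) → ∀ i, i < D.N → wval s w • φ i = φ (D.path w i) := by
    intro w
    induction w with
    | nil => intro _ i _; simp [wval]
    | cons g w ih =>
      intro hw i hi
      rw [wval, mul_smul, hφ i g hi (hw g List.mem_cons_self), CosetCert.path_cons]
      exact ih (fun x hx => hw x (List.mem_cons_of_mem _ hx)) _
        (CosetCert.actOf_lt he hn hi (hw g List.mem_cons_self))
  have hN : 0 < D.N := by
    simp only [CosetCert.nodesOK, Bool.and_eq_true, Nat.blt_eq] at hn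
    exact hn.1.2
  have := key w hw 0 hN
  rw [h, h0, MulAction.Quotient.smul_mk, smul_eq_mul, mul_one, QuotientGroup.eq, mul_one] at this
  exact inv_mem_iff.1 this

theorem H3Rel.center {a b c : G} (h : H3Rel a b c) :
    (a * b * c) ^ 5 * (a * b * c) ^ 5 = 1 ∧ Commute ((a * b * c) ^ 5) a ∧
      Commute ((a * b * c) ^ 5) b ∧ Commute ((a * b * c) ^ 5) c := by
  let s : ℕ → G := fun n => [a, b, c].getD n 1
  have hs : ∀ g, g < J1UH3.cert.m → s g * s g = 1 := by
    intro g hg
    change g < 3 at hg
    interval_cases g <;> first | exact h.aa | exact h.bb | exact h.cc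
  have hR : ∀ w ∈ J1UH3.cert.words.take J1UH3.cert.nR, wval s w = 1 := by
    intro w hw
    simp only [J1UH3.cert, List.take, List.mem_cons, List.not_mem_nil, or_false] at hw
    rcases hw with rfl | rfl | rfl
    · simpa [wval, s, pow_succ, mul_assoc] using h.ac
    · simpa [wval, s, pow_succ, mul_assoc] using h.bc
    · simpa [wval, s, pow_succ, mul_assoc] using h.ab
  have hK : ∀ w ∈ J1UH3.cert.words.drop J1UH3.cert.nR, wval s w ∈ (⊥ : Subgroup G) := by
    intro w hw
    simp [J1UH3.cert] at hw
  have key : ∀ w : List ℕ, (∀ g ∈ w, g < 3) → J1UH3.cert.path w 0 = 0 → wval s w = 1 :=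
    fun w hw hp => Subgroup.mem_bot.1
      (path_mem J1UH3.cert_edgesOK J1UH3.cert_nodesOK ⊥ hs hR hK hw hp)
  set z := (a * b * c) ^ 5 with hz
  have hzz : z * z = 1 := by
    have := key [2,1,0,2,1,0,2,1,0,2,1,0,2,1,0,2,1,0,2,1,0,2,1,0,2,1,0,2,1,0] (by decide)
      (by decide +kernel)
    simpa [wval, s, hz, pow_succ, mul_assoc] using this
  have comm : ∀ x : G, x * x = 1 → z * x * (z * x) = 1 → Commute z x := by
    intro x hx hzx
    calc z * x = (z * x)⁻¹ := (inv_eq_of_mul_eq_one_right hzx).symm
      _ = x * z := by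
        rw [mul_inv_rev, inv_eq_of_mul_eq_one_right hzz, inv_eq_of_mul_eq_one_right hx]
  refine ⟨hzz, comm a h.aa ?_, comm b h.bb ?_, comm c h.cc ?_⟩
  · have := key [0,2,1,0,2,1,0,2,1,0,2,1,0,2,1,0,0,2,1,0,2,1,0,2,1,0,2,1,0,2,1,0] (by decide)
      (by decide +kernel)
    simpa [wval, s, hz, pow_succ, mul_assoc] using this
  · have := key [1,2,1,0,2,1,0,2,1,0,2,1,0,2,1,0,1,2,1,0,2,1,0,2,1,0,2,1,0,2,1,0] (by decide)
      (by decide +kernel)
    simpa [wval, s, hz, pow_succ, mul_assoc] using this
  · have := key [2,2,1,0,2,1,0,2,1,0,2,1,0,2,1,0,2,2,1,0,2,1,0,2,1,0,2,1,0,2,1,0] (by decide)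
      (by decide +kernel)
    simpa [wval, s, hz, pow_succ, mul_assoc] using this

theorem wval_gens5 {a b c d t : G} (h : BaseRel a b c d t) (g : ℕ) (hg : g < 5) :
    gens5 a b c d t g * gens5 a b c d t g = 1 := by
  interval_cases g <;> first | exact h.aa | exact h.bb | exact h.cc | exact h.dd | exact h.tt

theorem image_gens5 (a b c d t : G) :
    gens5 a b c d t '' {g | g < 5} = {a, b, c, d, t} := by
  ext x
  simp only [Set.mem_image, Set.mem_ofPred_eq, Set.mem_insert_iff, Set.mem_singleton_iff]
  constructor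
  · rintro ⟨g, hg, rfl⟩
    interval_cases g <;> simp [gens5]
  · rintro (rfl | rfl | rfl | rfl | rfl)
    exacts [⟨0, by decide, rfl⟩, ⟨1, by decide, rfl⟩, ⟨2, by decide, rfl⟩, ⟨3, by decide, rfl⟩,
      ⟨4, by decide, rfl⟩]

theorem GoodRel.card_le {a b c d t : G} [Finite G] (h : GoodRel a b c d t)
    (hgen : Subgroup.closure ({a, b, c, d, t} : Set G) = ⊤) : Nat.card G ≤ 1463 * 120 := by
  let s := gens5 a b c d t
  let H := Subgroup.closure ({b, c, d, t} : Set G)
  have hR : ∀ w ∈ J1UGood.cert.words.take J1UGood.cert.nR, wval s w = 1 := by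
    intro w hw
    simp only [J1UGood.cert, List.take, List.mem_cons, List.not_mem_nil, or_false] at hw
    rcases hw with rfl | rfl | rfl | rfl | rfl | rfl | rfl | rfl | rfl | rfl | rfl | rfl
    · simpa [wval, s, pow_succ, mul_assoc] using h.ac
    · simpa [wval, s, pow_succ, mul_assoc] using h.ad
    · simpa [wval, s, pow_succ, mul_assoc] using h.bd
    · simpa [wval, s, pow_succ, mul_assoc] using h.bt
    · simpa [wval, s, pow_succ, mul_assoc] using h.ct
    · simpa [wval, s, pow_succ, mul_assoc] using h.dt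
    · simpa [wval, s, pow_succ, mul_assoc] using h.bc
    · simpa [wval, s, pow_succ, mul_assoc] using h.ta
    · simpa [wval, s, pow_succ, mul_assoc] using h.cd
    · simpa [wval, s, pow_succ, mul_assoc] using h.ab
    · simpa [wval, s, pow_succ, mul_assoc] using h.hemi
    · simpa [wval, s, pow_succ, mul_assoc] using h.bcdt
  have hK : ∀ w ∈ J1UGood.cert.words.drop J1UGood.cert.nR, wval s w ∈ H := by
    intro w hw
    simp only [J1UGood.cert, List.drop, List.mem_cons, List.not_mem_nil, or_false] at hw
    rcases hw with rfl | rfl | rfl | rfl <;>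
      exact Subgroup.subset_closure (by simp [wval, s])
  have hi : H.index ≤ 1463 :=
    index_le J1UGood.cert_edgesOK J1UGood.cert_nodesOK H
      (fun g hg => wval_gens5 h.toBaseRel g hg) hR hK
      (by change Subgroup.closure (s '' {g | g < 5}) = ⊤; rw [image_gens5, hgen])
  let u : ℕ → H := fun n => ([(⟨b, Subgroup.subset_closure (by simp)⟩ : H),
    ⟨c, Subgroup.subset_closure (by simp)⟩, ⟨d, Subgroup.subset_closure (by simp)⟩,
    ⟨t, Subgroup.subset_closure (by simp)⟩] : List H).getD n 1
  have hu : ∀ g, g < J1UC.cert.m → u g * u g = 1 := by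
    intro g hg
    change g < 4 at hg
    interval_cases g <;> apply Subtype.ext <;> first | exact h.bb | exact h.cc | exact h.dd | exact h.tt
  have hRu : ∀ w ∈ J1UC.cert.words.take J1UC.cert.nR, wval u w = 1 := by
    intro w hw
    simp only [J1UC.cert, List.take, List.mem_cons, List.not_mem_nil, or_false] at hw
    rcases hw with rfl | rfl | rfl | rfl | rfl | rfl | rfl <;> apply Subtype.ext
    · simpa [wval, u, pow_succ, mul_assoc] using h.bd
    · simpa [wval, u, pow_succ, mul_assoc] using h.bt
    · simpa [wval, u, pow_succ, mul_assoc] using h.ct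
    · simpa [wval, u, pow_succ, mul_assoc] using h.dt
    · simpa [wval, u, pow_succ, mul_assoc] using h.bc
    · simpa [wval, u, pow_succ, mul_assoc] using h.cd
    · simpa [wval, u, pow_succ, mul_assoc] using h.bcdt
  have hgu : Subgroup.closure (u '' {g | g < J1UC.cert.m}) = ⊤ := by
    rw [eq_top_iff, ← Subgroup.closure_closure_coe_preimage (k := ({b, c, d, t} : Set G))]
    refine Subgroup.closure_mono ?_
    rintro ⟨x, hx⟩ hxm
    simp only [Set.mem_preimage, Set.mem_insert_iff, Set.mem_singleton_iff] at hxm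
    rcases hxm with rfl | rfl | rfl | rfl
    exacts [⟨0, (by decide : 0 < 4), rfl⟩, ⟨1, (by decide : 1 < 4), rfl⟩,
      ⟨2, (by decide : 2 < 4), rfl⟩, ⟨3, (by decide : 3 < 4), rfl⟩]
  have hH : Nat.card H ≤ 120 := by
    have := index_le J1UC.cert_edgesOK J1UC.cert_nodesOK (⊥ : Subgroup H) hu hRu
      (fun w hw => by simp [J1UC.cert] at hw) hgu
    rwa [Subgroup.index_bot] at this
  calc Nat.card G = H.index * Nat.card H := (H.index_mul_card).symm
    _ ≤ 1463 * 120 := Nat.mul_le_mul hi hH

theorem BadRel.mem {a b c d t : G} (h : BadRel a b c d t) :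
    a ∈ Subgroup.closure ({b, c, d, t} : Set G) := by
  let s := gens5 a b c d t
  let L : List (List ℕ) := J1UBad.cert.words.take J1UBad.cert.nR ++ [[0, 0], [1, 1], [2, 2], [3, 3], [4, 4]]
  have hL : ∀ w ∈ L, wval s w = 1 := by
    intro w hw
    simp only [L, J1UBad.cert, List.take, List.cons_append, List.nil_append, List.mem_cons,
      List.not_mem_nil, or_false] at hw
    rcases hw with rfl | rfl | rfl | rfl | rfl | rfl | rfl | rfl | rfl | rfl | rfl | rfl | rfl | rfl | rfl |
      rfl | rfl
    · simpa [wval, s, pow_succ, mul_assoc] using h.ac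
    · simpa [wval, s, pow_succ, mul_assoc] using h.ad
    · simpa [wval, s, pow_succ, mul_assoc] using h.bd
    · simpa [wval, s, pow_succ, mul_assoc] using h.bt
    · simpa [wval, s, pow_succ, mul_assoc] using h.ct
    · simpa [wval, s, pow_succ, mul_assoc] using h.dt
    · simpa [wval, s, pow_succ, mul_assoc] using h.bc
    · simpa [wval, s, pow_succ, mul_assoc] using h.ta
    · simpa [wval, s, pow_succ, mul_assoc] using h.cd
    · simpa [wval, s, pow_succ, mul_assoc] using h.ab
    · simpa [wval, s, pow_succ, mul_assoc] using h.hemi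
    · simpa [wval, s, pow_succ, mul_assoc] using h.bcd
    all_goals simpa [wval, s] using (by first | exact h.aa | exact h.bb | exact h.cc | exact h.dd | exact h.tt)
  have hrev : ∀ u : List ℕ, (∀ g ∈ u, g < 5) → wval s u.reverse = (wval s u)⁻¹ := by
    intro u
    induction u with
    | nil => intro _; simp [wval]
    | cons g u ih =>
      intro hu
      rw [List.reverse_cons, wval_append, ih fun x hx => hu x (List.mem_cons_of_mem _ hx)]
      simp only [wval, one_mul, mul_inv_rev]
      rw [inv_eq_of_mul_eq_one_right (wval_gens5 h.toBaseRel g (hu g List.mem_cons_self))]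
  have hok : ((J1UBad.deriv.words.take J1UBad.deriv.nR).all fun w => w.isEmpty ||
      (w.all (fun g => Nat.blt g 5) && (List.range w.length).any fun k =>
        L.contains (w.rotate k) || L.contains (w.rotate k).reverse)) = true := by decide +kernel
  have hrot : ∀ (w : List ℕ) (k : ℕ), wval s (w.rotate k) = 1 → wval s w = 1 := by
    intro w k hw
    rwa [List.rotate_eq_drop_append_take_mod, wval_append, mul_eq_one_comm, ← wval_append,
      List.take_append_drop] at hw
  have hR : ∀ w ∈ J1UBad.deriv.words.take J1UBad.deriv.nR, wval s w = 1 := by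
    intro w hw
    have := List.all_eq_true.1 hok w hw
    simp only [Bool.or_eq_true, Bool.and_eq_true, List.all_eq_true, List.any_eq_true,
      List.contains_eq_mem, decide_eq_true_eq, List.isEmpty_iff, Nat.blt_eq] at this
    rcases this with rfl | ⟨hlt, k, -, hk | hk⟩
    · rfl
    · exact hrot w k (hL _ hk)
    · refine hrot w k ?_
      have := hL _ hk
      rwa [hrev _ (fun g hg => hlt g (List.mem_rotate.1 hg)), inv_eq_one] at this
  have hK : ∀ w ∈ J1UBad.deriv.words.drop J1UBad.deriv.nR,
      wval s w ∈ Subgroup.closure ({b, c, d, t} : Set G) := by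
    intro w hw
    simp only [J1UBad.deriv, List.drop, List.mem_cons, List.not_mem_nil, or_false] at hw
    rcases hw with rfl | rfl | rfl | rfl <;>
      exact Subgroup.subset_closure (by simp [wval, s])
  have := DerivCert.loops_mem J1UBad.deriv _ J1UBad.deriv_factsOK J1UBad.deriv_loopsOK
    (fun g hg => wval_gens5 h.toBaseRel g hg) hR hK [0] (by simp [J1UBad.deriv])
  simpa [wval, s] using this

end Cfsg.Agent.J1Unique
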